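import Mathlib
import Cfsg.Prelude.Def_Local
import Cfsg.Agent.Lib.Components.GenFitting
import Cfsg.Agent.Lib.Coprime.Action
import Cfsg.Agent.Lib.PGroup.Basic
import Cfsg.Agent.LocalEven64.CharP

/-!
Groups with `F*(X) = O_p(X)`.
-/

set_option autoImplicit false

namespace Cfsg.Agent.Class49

open Subgroup

variable {X : Type*} [Group X] [Finite X] {p : ℕ} [hp : Fact p.Prime]

omit hp in
theorem centralizer_pCore_le_of_fStar_eq (h : generalizedFittingSubgroup X = pCore p X) :
    Subgroup.centralizer (pCore p X : Set X) ≤ pCore p X := by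
  have := Components.centralizer_generalizedFitting_le (G := X)
  rwa [h] at this

theorem pCore_le_fStar : pCore p X ≤ generalizedFittingSubgroup X :=
  (Fitting.pCore_le_fitting p).trans Components.fitting_le_generalizedFitting

theorem fStar_eq_of_centralizer_pCore_le
    (h : Subgroup.centralizer (pCore p X : Set X) ≤ pCore p X) :
    generalizedFittingSubgroup X = pCore p X := by
  refine le_antisymm (sup_le ?_ ?_) pCore_le_fStar
  · rw [Components.layer_le_iff]
    intro L hL
    exfalso
    have hLp : L ≤ pCore p X := by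
      refine le_trans ?_ h
      refine le_trans (Components.component_le_layer hL) ?_
      exact Components.layer_le_centralizer_fitting.trans
        (Subgroup.centralizer_le (Fitting.pCore_le_fitting p))
    haveI : Group.IsNilpotent ↥(pCore p X) := (Thompson.isPGroup_pCore (p := p)).isNilpotent
    exact Components.component_not_le_isSolvable hL (H := pCore p X) inferInstance hLp
  · rw [Fitting.fitting_eq_iSup_pCore]
    refine iSup_le fun q => ?_
    haveI : Fact (q : ℕ).Prime := ⟨q.2⟩
    by_cases hq : (q : ℕ) = p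
    · rw [hq]
    · refine le_trans ?_ h
      intro x hx
      rw [Subgroup.mem_centralizer_iff]
      exact fun y hy => (Fitting.pCore_commute hq hx hy).eq.symm

/-- When `C(O_p(X)) ≤ O_p(X)`, an element centralizing `O_p(X)` modulo its Frattini subgroup lies
in `O_p(X)`. -/
theorem mem_pCore_of_frattini_trivial
    (h : Subgroup.centralizer (pCore p X : Set X) ≤ pCore p X) {a : X}
    (ha : ∀ q ∈ pCore p X,
      a * q * a⁻¹ * q⁻¹ ∈ (frattini ↥(pCore p X)).map (pCore p X).subtype) :
    a ∈ pCore p X := by
  set Q := pCore p X with hQ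
  set Φ : Subgroup X := (frattini ↥Q).map Q.subtype with hΦ
  haveI : Φ.Normal := ConjAct.normal_of_characteristic_of_normal
  let π := QuotientGroup.mk' Φ
  set K : Subgroup X := (Subgroup.centralizer ((Q.map π : Subgroup (X ⧸ Φ)) : Set (X ⧸ Φ))).comap π
    with hK
  haveI : (Q.map π).Normal := Subgroup.Normal.map inferInstance _ (QuotientGroup.mk'_surjective Φ)
  have hKn : K.Normal := by rw [hK]; exact Subgroup.Normal.comap inferInstance _
  have hmem : ∀ x : X, x ∈ K ↔ ∀ q ∈ Q, x * q * x⁻¹ * q⁻¹ ∈ Φ := by
    intro x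
    rw [hK, Subgroup.mem_comap, Subgroup.mem_centralizer_iff]
    constructor
    · intro hx q hq
      have := hx (π q) ⟨q, hq, rfl⟩
      rw [← QuotientGroup.ker_mk' Φ, MonoidHom.mem_ker, map_mul, map_mul, map_mul, map_inv, map_inv]
      change π x * π q * (π x)⁻¹ * (π q)⁻¹ = 1
      rw [← this, mul_inv_cancel_right, mul_inv_cancel]
    · rintro hx _ ⟨q, hq, rfl⟩
      have h1 := hx q hq
      rw [← QuotientGroup.ker_mk' Φ, MonoidHom.mem_ker, map_mul, map_mul, map_mul, map_inv,
        map_inv, mul_inv_eq_one, mul_inv_eq_iff_eq_mul] at h1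
      exact h1.symm
  have hKp : IsPGroup p K := by
    refine LocalEven64.isPGroup_of_forall_coprime fun x hx hxp => ?_
    refine LocalEven64.eq_one_of_mem_pGroup (Thompson.isPGroup_pCore (p := p)) ?_ hxp
    apply h
    have hcop : (Nat.card (Subgroup.zpowers x)).Coprime (Nat.card (frattini ↥Q)) := by
      obtain ⟨k, hk⟩ := Cfsg.Agent.PGroup.exists_card_eq_pow
        (Thompson.isPGroup_pCore (p := p) (G := X)) (frattini ↥Q)
      rw [Nat.card_zpowers, hk]
      exact hxp.pow_right k
    have hn : Subgroup.zpowers x ≤ Subgroup.normalizer (Q : Set X) := by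
      rw [Subgroup.normalizer_eq_top]; exact le_top
    refine Coprime.le_centralizer_of_frattini (Subgroup.zpowers x) Q hn hcop (fun y hy k hk => ?_)
      (Subgroup.mem_zpowers x)
    exact (hmem y).mp (Subgroup.zpowers_le.mpr hx hy) k hk
  exact Thompson.le_pCore hKn hKp ((hmem a).mpr ha)

end Cfsg.Agent.Class49
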