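import Mathlib
import Cfsg.Agent.LocalEven64.CharP
import Cfsg.Agent.LocalEven62.Action
import Cfsg.Agent.Class49.CharTwo

/-!
Characteristic `p` in local subgroups.
-/

set_option autoImplicit false

namespace Cfsg.Agent.Class49

open Subgroup LocalEven64
open scoped commutatorElement

variable {G : Type*} [Group G] [Finite G] {p : ℕ}

theorem pCoreOf_le_pCoreOf {D N : Subgroup G} (hDN : D ≤ N)
    (hn : N ≤ normalizer (D : Set G)) : Cfsg.pCoreOf p D ≤ Cfsg.pCoreOf p N :=
  LocalEven64.le_pCoreOf ((LocalEven64.pCoreOf_le D).trans hDN)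
    (hn.trans (LocalEven62.normalizer_le_normalizer_pCoreOf D)) (LocalEven64.isPGroup_pCoreOf D)

variable [Fact p.Prime]

/-- A subgroup `L` has characteristic `p` if some `z` centralizing `O_p(L)` has centralizer of
characteristic `p` and `C(O_p(L))` lies in `L ∩ C(z)`. -/
theorem charPOf_of_centralizer {L : Subgroup G} {z : G}
    (hz : CharPOf p (centralizer ({z} : Set G)))
    (hQ : Cfsg.pCoreOf p L ≤ centralizer ({z} : Set G))
    (hCz : centralizer (Cfsg.pCoreOf p L : Set G) ≤ centralizer ({z} : Set G))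
    (hCL : centralizer (Cfsg.pCoreOf p L : Set G) ≤ L) : CharPOf p L := by
  set Q := Cfsg.pCoreOf p L with hQdef
  set R := Cfsg.pCoreOf p (centralizer ({z} : Set G)) with hRdef
  refine charPOf_iff.mpr fun x hx hxp hxc => ?_
  refine hz.eq_one (hCz hxc) hxp ?_
  refine pq_lemma (LocalEven64.isPGroup_pCoreOf _) (LocalEven64.isPGroup_pCoreOf L)
    (hQ.trans (LocalEven64.le_normalizer_pCoreOf _)) hxp
    (LocalEven64.le_normalizer_pCoreOf _ (hCz hxc)) hxc ?_
  intro y hy hyQ
  have hn : centralizer (Q : Set G) ≤ normalizer ((R ⊓ centralizer (Q : Set G) : Subgroup G) : Set G) :=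
    LocalEven64.le_normalizer_inf (hCz.trans (LocalEven64.le_normalizer_pCoreOf _)) le_normalizer
  have hyC : y ∈ Cfsg.pCoreOf p (centralizer (Q : Set G)) :=
    LocalEven64.le_pCoreOf inf_le_right hn ((LocalEven64.isPGroup_pCoreOf _).to_le inf_le_left)
      (Subgroup.mem_inf.mpr ⟨hy, hyQ⟩)
  have hyQ' : y ∈ Q :=
    pCoreOf_le_pCoreOf hCL
      (LocalEven64.le_normalizer_centralizer (LocalEven64.le_normalizer_pCoreOf L)) hyC
  exact (mem_centralizer_iff.mp hxc y hyQ').symm

/-- Centralizers of `p`-subgroups acting on a group of characteristic `p`. -/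
theorem charPOf_inf_centralizer {K W : Subgroup G} (hK : CharPOf p K) (hW : IsPGroup p W)
    (hWK : W ≤ normalizer (K : Set G)) : CharPOf p (K ⊓ centralizer (W : Set G)) := by
  refine charPOf_iff.mpr fun x hx hxp hxc => hK.eq_one hx.1 hxp ?_
  refine pq_lemma (LocalEven64.isPGroup_pCoreOf K) hW
    (hWK.trans (LocalEven62.normalizer_le_normalizer_pCoreOf K)) hxp
    (LocalEven64.le_normalizer_pCoreOf K hx.1) hx.2 ?_
  intro y hy hyW
  have hyC : y ∈ Cfsg.pCoreOf p (K ⊓ centralizer (W : Set G)) :=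
    LocalEven64.le_pCoreOf (inf_le_inf_right _ (LocalEven64.pCoreOf_le K))
      (LocalEven64.le_normalizer_inf (inf_le_left.trans (LocalEven64.le_normalizer_pCoreOf K))
        (inf_le_right.trans le_normalizer))
      ((LocalEven64.isPGroup_pCoreOf K).to_le inf_le_left) (Subgroup.mem_inf.mpr ⟨hy, hyW⟩)
  exact (mem_centralizer_iff.mp hxc y hyC).symm

theorem normalizer_zpowers_of_orderOf_two {z : G} (hz : orderOf z = 2) :
    normalizer ((zpowers z : Subgroup G) : Set G) = centralizer ({z} : Set G) := by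
  refine le_antisymm (fun g hg => ?_) ?_
  · have h := (mem_normalizer_iff.mp hg z).mp (mem_zpowers z)
    obtain ⟨i, hi⟩ := Subgroup.mem_zpowers_iff.mp h
    rcases Int.even_or_odd i with ⟨j, rfl⟩ | ⟨j, rfl⟩
    · have hz1 : z ^ (2 : ℤ) = 1 := by
        rw [show (2 : ℤ) = ((2 : ℕ) : ℤ) from rfl, zpow_natCast, ← hz, pow_orderOf_eq_one]
      rw [show j + j = 2 * j by ring, zpow_mul, hz1, one_zpow, eq_comm, mul_inv_eq_one,
        mul_eq_left] at hi
      exact absurd (hi ▸ hz : orderOf (1 : G) = 2) (by simp)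
    · have hz1 : z ^ (2 : ℤ) = 1 := by
        rw [show (2 : ℤ) = ((2 : ℕ) : ℤ) from rfl, zpow_natCast, ← hz, pow_orderOf_eq_one]
      rw [zpow_add, zpow_mul, hz1, one_zpow, one_mul, zpow_one] at hi
      refine mem_centralizer_iff.mpr fun y hy => ?_
      rw [Set.mem_singleton_iff] at hy
      subst hy
      exact (mul_inv_eq_iff_eq_mul.mp hi.symm).symm
  · rw [zpowers_eq_closure, ← centralizer_closure]
    exact centralizer_le_normalizer _

/-- If `p`-subgroup `U` contains `U₀` whose centralizer has characteristic `p`, so has `C(U)`. -/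
theorem charPOf_centralizer_of_le {U U₀ : Subgroup G} (hU : IsPGroup p U) (h0 : U₀ ≤ U)
    (hc : CharPOf p (centralizer (U₀ : Set G))) : CharPOf p (centralizer (U : Set G)) := by
  by_cases hle : U ≤ U₀
  · rwa [le_antisymm hle h0]
  have hlt : U₀.subgroupOf U < ⊤ := lt_top_iff_ne_top.mpr fun h => hle (subgroupOf_eq_top.mp h)
  haveI : Group.IsNilpotent ↥U := hU.isNilpotent
  have hn := normalizerCondition_of_isNilpotent (G := ↥U) _ hlt
  set U₁ : Subgroup G :=
    (normalizer ((U₀.subgroupOf U : Subgroup ↥U) : Set ↥U)).map U.subtype with hU₁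
  have h1U : U₁ ≤ U := map_subtype_le _
  have h01 : U₀ < U₁ := by
    rw [hU₁]
    have := (map_lt_map_iff_of_injective U.subtype_injective).mpr hn
    rwa [map_subgroupOf_eq_of_le h0] at this
  have hn1 : U₁ ≤ normalizer (U₀ : Set G) := by
    have := Subgroup.le_normalizer_map (H := U₀.subgroupOf U) U.subtype
    rwa [map_subgroupOf_eq_of_le h0] at this
  have hc1 := charPOf_inf_centralizer hc (hU.to_le h1U)
    (LocalEven64.le_normalizer_centralizer hn1)
  rw [inf_eq_right.mpr (centralizer_le h01.le)] at hc1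
  exact charPOf_centralizer_of_le hU h1U hc1
termination_by Nat.card U - Nat.card U₀
decreasing_by
  have h2 : Nat.card U₀ < Nat.card U₁ := by
    rcases Nat.lt_or_ge (Nat.card U₀) (Nat.card U₁) with h | h
    · exact h
    · exact absurd (Subgroup.eq_of_le_of_card_ge h01.le h) h01.ne
  have h3 : Nat.card U₁ ≤ Nat.card U := Subgroup.card_le_of_le h1U
  exact Nat.sub_lt_sub_left (lt_of_lt_of_le h2 h3) h2

end Cfsg.Agent.Class49
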