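import Mathlib
import Cfsg.Prelude.Def_Transfer
import Cfsg.Agent.Lib.PGroup.Basic
import Cfsg.Agent.Lib.PGroup.Commutator

/-!
Centralizers in extraspecial 2-groups.
-/

set_option autoImplicit false

namespace Cfsg.Agent.Class49

open Subgroup
open scoped commutatorElement

variable {Q : Type*} [Group Q]

theorem exSp_commutator_le_center (hQ : IsExtraspecial 2 Q) :
    commutator Q ≤ Subgroup.center Q := hQ.1.2.2.le

theorem exSp_comm_mem_center (hQ : IsExtraspecial 2 Q) (a b : Q) : ⁅a, b⁆ ∈ Subgroup.center Q :=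
  exSp_commutator_le_center hQ (Cfsg.Agent.PGroup.commutatorElement_mem_commutator a b)

theorem exSp_eq_of_mem_center [Finite Q] (hQ : IsExtraspecial 2 Q) {a b : Q}
    (ha : a ∈ Subgroup.center Q) (ha1 : a ≠ 1) (hb : b ∈ Subgroup.center Q) (hb1 : b ≠ 1) :
    a = b := by
  obtain ⟨c, hc, huniq⟩ := (Nat.card_eq_two_iff' (⟨1, one_mem _⟩ : Subgroup.center Q)).mp hQ.2
  have h1 := huniq ⟨a, ha⟩ (fun h => ha1 (congrArg Subtype.val h))
  have h2 := huniq ⟨b, hb⟩ (fun h => hb1 (congrArg Subtype.val h))
  exact congrArg Subtype.val (h1.trans h2.symm)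

theorem exSp_sq_mem_center [Finite Q] (hQ : IsExtraspecial 2 Q) (a : Q) :
    a ^ 2 ∈ Subgroup.center Q := by
  rw [← hQ.1.2.1]
  exact Cfsg.Agent.PGroup.pow_mem_frattini hQ.1.1 a

theorem exSp_center_sq [Finite Q] (hQ : IsExtraspecial 2 Q) {a : Q}
    (ha : a ∈ Subgroup.center Q) : a ^ 2 = 1 := by
  have := pow_card_eq_one' (G := ↥(Subgroup.center Q)) (x := ⟨a, ha⟩)
  rw [hQ.2] at this
  exact congrArg Subtype.val this

theorem exSp_index_centralizer_singleton_le [Finite Q] (hQ : IsExtraspecial 2 Q) (x : Q) :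
    (Subgroup.centralizer ({x} : Set Q)).index ≤ 2 := by
  have hC := exSp_commutator_le_center hQ
  have hker : (Cfsg.Agent.PGroup.commHom hC x).ker = Subgroup.centralizer ({x} : Set Q) := by
    ext y
    rw [MonoidHom.mem_ker, Cfsg.Agent.PGroup.commHom_apply, commutatorElement_eq_one_iff_mul_comm,
      Subgroup.mem_centralizer_singleton_iff]
  rw [← hker, Subgroup.index_ker, ← hQ.2]
  refine Subgroup.card_le_of_le ?_
  rintro _ ⟨y, rfl⟩
  exact exSp_comm_mem_center hQ y x

theorem exSp_card_centralizer_mono [Finite Q] (hQ : IsExtraspecial 2 Q) {U V : Subgroup Q}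
    (hUV : U ≤ V) :
    Nat.card (Subgroup.centralizer (U : Set Q)) * Nat.card U ≤
      Nat.card (Subgroup.centralizer (V : Set Q)) * Nat.card V := by
  induction hn : Nat.card V using Nat.strong_induction_on generalizing V with
  | _ n ih =>
    subst hn
    rcases hUV.eq_or_lt with rfl | hlt
    · exact le_rfl
    have hne : U.subgroupOf V ≠ ⊤ := fun h => hlt.not_ge (Subgroup.subgroupOf_eq_top.mp h)
    obtain ⟨M, hUM, -, hM⟩ :=
      Cfsg.Agent.PGroup.exists_le_index_eq_prime (hQ.1.1.to_subgroup V) hne
    set V' : Subgroup Q := M.map V.subtype with hV'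
    have hcard : Nat.card V = 2 * Nat.card V' := by
      rw [← Subgroup.card_mul_index M, hM, mul_comm,
        Nat.card_congr (M.equivMapOfInjective _ V.subtype_injective).toEquiv]
    have hUV' : U ≤ V' := fun u hu => ⟨⟨u, hUV hu⟩, hUM hu, rfl⟩
    have hlt' : Nat.card V' < Nat.card V := by
      have : 0 < Nat.card V' := Nat.card_pos
      omega
    obtain ⟨x, hxM⟩ : ∃ x : ↥V, x ∉ M := by
      by_contra h
      push Not at h
      rw [Subgroup.eq_top_iff' M |>.mpr h, Subgroup.index_top] at hM
      omega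
    have hinf : Subgroup.centralizer (V' : Set Q) ⊓ Subgroup.centralizer ({(x : Q)} : Set Q) ≤
        Subgroup.centralizer (V : Set Q) := by
      rintro y ⟨hy1, hy2⟩
      rw [Subgroup.mem_centralizer_iff]
      intro v hv
      have hle : M ≤ (Subgroup.centralizer ({y} : Set Q)).subgroupOf V := by
        intro m hm
        rw [Subgroup.mem_subgroupOf, Subgroup.mem_centralizer_singleton_iff]
        exact Subgroup.mem_centralizer_iff.mp hy1 _ ⟨m, hm, rfl⟩
      have htop : (Subgroup.centralizer ({y} : Set Q)).subgroupOf V = ⊤ := by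
        refine ((Cfsg.Agent.PGroup.isCoatom_of_index_prime (hM ▸ Nat.prime_two)).2 _
          (lt_of_le_of_ne hle fun h => hxM ?_))
        rw [h, Subgroup.mem_subgroupOf, Subgroup.mem_centralizer_singleton_iff]
        exact (Subgroup.mem_centralizer_singleton_iff.mp hy2).symm
      exact Subgroup.mem_centralizer_singleton_iff.mp (Subgroup.subgroupOf_eq_top.mp htop hv)
    have h2 : Nat.card (Subgroup.centralizer (V' : Set Q)) ≤
        2 * Nat.card (Subgroup.centralizer (V : Set Q)) := by
      have h3 : (Subgroup.centralizer (V' : Set Q) ⊓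
          Subgroup.centralizer ({(x : Q)} : Set Q)).index ≤
            (Subgroup.centralizer (V' : Set Q)).index * 2 :=
        Subgroup.index_inf_le.trans
          (Nat.mul_le_mul_left _ (exSp_index_centralizer_singleton_le hQ _))
      have e1 := Subgroup.card_mul_index (Subgroup.centralizer (V' : Set Q))
      have e2 := Subgroup.card_mul_index (Subgroup.centralizer (V' : Set Q) ⊓
          Subgroup.centralizer ({(x : Q)} : Set Q))
      have e3 := Subgroup.card_le_of_le hinf
      have e4 : 0 < (Subgroup.centralizer (V' : Set Q)).index :=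
        Nat.pos_of_ne_zero Subgroup.index_ne_zero_of_finite
      nlinarith
    calc Nat.card (Subgroup.centralizer (U : Set Q)) * Nat.card U
        ≤ Nat.card (Subgroup.centralizer (V' : Set Q)) * Nat.card V' :=
          ih _ hlt' hUV' rfl
      _ ≤ 2 * Nat.card (Subgroup.centralizer (V : Set Q)) * Nat.card V' :=
          Nat.mul_le_mul_right _ h2
      _ = Nat.card (Subgroup.centralizer (V : Set Q)) * Nat.card V := by rw [hcard]; ring

theorem exSp_card_centralizer [Finite Q] (hQ : IsExtraspecial 2 Q) {U : Subgroup Q}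
    (hU : Subgroup.center Q ≤ U) :
    Nat.card (Subgroup.centralizer (U : Set Q)) * Nat.card U = Nat.card Q * 2 := by
  have h1 := exSp_card_centralizer_mono hQ hU
  have h2 := exSp_card_centralizer_mono hQ (le_top (a := U))
  rw [Subgroup.coe_top, Subgroup.centralizer_univ, hQ.2, Subgroup.card_top] at h2
  rw [Subgroup.centralizer_eq_top_iff_subset.mpr (le_refl _), Subgroup.card_top, hQ.2] at h1
  rw [mul_comm 2] at h2
  exact le_antisymm h2 h1

end Cfsg.Agent.Class49
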