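import Mathlib
import Cfsg.Prelude.Def_Transfer
import Cfsg.Agent.LocalEven64.CharP
import Cfsg.Agent.Lib.Coprime.Generation
import Cfsg.Agent.Lib.Coprime.Hall
import Cfsg.Agent.Lib.Thompson.Replacement
import Cfsg.Agent.Lib.PGroup.Basic

/-!
Elementary tools for the theorem of Klinger and Mason: elementary abelian groups acting on
two-groups, hyperplanes, and minimal invariant subgroups moved by the action.
-/

set_option autoImplicit false

namespace Cfsg.Agent.Class49.KM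

open Subgroup
open scoped commutatorElement

variable {G : Type*} [Group G]

theorem commute_of_elem {r : ℕ} {A : Subgroup G} (hA : Cfsg.IsElementaryAbelian r A) {a b : G}
    (ha : a ∈ A) (hb : b ∈ A) : Commute a b :=
  congrArg Subtype.val (hA.1.is_comm.comm ⟨a, ha⟩ ⟨b, hb⟩)

theorem isPGroup_of_elem {r : ℕ} {A : Subgroup G} (hA : Cfsg.IsElementaryAbelian r A) :
    IsPGroup r A :=
  fun x => ⟨1, Subtype.ext (by simpa using hA.2 x x.2)⟩

theorem elem_of_le {r : ℕ} {A C : Subgroup G} (hA : Cfsg.IsElementaryAbelian r A) (hCA : C ≤ A) :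
    Cfsg.IsElementaryAbelian r C :=
  ⟨⟨⟨fun a b => Subtype.ext (commute_of_elem hA (hCA a.2) (hCA b.2)).eq⟩⟩,
    fun a ha => hA.2 a (hCA ha)⟩

theorem le_centralizer_elem {r : ℕ} {A C : Subgroup G} (hA : Cfsg.IsElementaryAbelian r A)
    (hCA : C ≤ A) : A ≤ centralizer (C : Set G) :=
  fun a ha => mem_centralizer_iff.mpr fun c hc => (commute_of_elem hA (hCA hc) ha).eq

theorem mem_centralizer_sup {H K : Subgroup G} {y : G} (hH : y ∈ centralizer (H : Set G))
    (hK : y ∈ centralizer (K : Set G)) : y ∈ centralizer ((H ⊔ K : Subgroup G) : Set G) := by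
  have h : H ⊔ K ≤ centralizer ({y} : Set G) := by
    refine sup_le ?_ ?_
    · intro a ha
      exact mem_centralizer_singleton_iff.mpr (mem_centralizer_iff.mp hH a ha)
    · intro a ha
      exact mem_centralizer_singleton_iff.mpr (mem_centralizer_iff.mp hK a ha)
  exact mem_centralizer_iff.mpr fun a ha => mem_centralizer_singleton_iff.mp (h ha)

theorem centralizer_zpowers (x : G) :
    centralizer ((zpowers x : Subgroup G) : Set G) = centralizer ({x} : Set G) := by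
  rw [zpowers_eq_closure, centralizer_closure]

theorem mem_sup_zpowers {H : Subgroup G} {x y : G} (hx : x ∈ normalizer (H : Set G))
    (hy : y ∈ H ⊔ zpowers x) : ∃ h ∈ H, ∃ t ∈ zpowers x, y = h * t := by
  have hy' : y ∈ (↑(H ⊔ zpowers x) : Set G) := hy
  rw [coe_mul_of_right_le_normalizer_left H (zpowers x) (zpowers_le.mpr hx)] at hy'
  obtain ⟨h, hh, t, ht, rfl⟩ := hy'
  exact ⟨h, hh, t, ht, rfl⟩

theorem mem_zpowers_two {z y : G} (hz : z * z = 1) (hy : y ∈ zpowers z) : y = 1 ∨ y = z := by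
  obtain ⟨i, rfl⟩ := mem_zpowers_iff.mp hy
  have hz2 : z ^ (2 : ℤ) = 1 := by
    rw [show (2 : ℤ) = ((2 : ℕ) : ℤ) from rfl, zpow_natCast, pow_two, hz]
  rcases Int.even_or_odd i with ⟨j, rfl⟩ | ⟨j, rfl⟩
  · left
    rw [show j + j = 2 * j by ring, zpow_mul, hz2, one_zpow]
  · right
    rw [zpow_add, zpow_mul, hz2, one_zpow, one_mul, zpow_one]

theorem mem_sup_two {H : Subgroup G} {t y : G} (ht : t * t = 1) (htn : t ∈ normalizer (H : Set G))
    (hy : y ∈ H ⊔ zpowers t) : y ∈ H ∨ y * t ∈ H := by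
  obtain ⟨h, hh, s, hs, rfl⟩ := mem_sup_zpowers htn hy
  rcases mem_zpowers_two ht hs with rfl | rfl
  · exact Or.inl (by simpa using hh)
  · exact Or.inr (by simpa [mul_assoc, ht] using hh)

theorem mem_centralizer_of_commute {H : Subgroup G} {y : G} (h : ∀ a ∈ H, Commute a y) :
    y ∈ centralizer (H : Set G) :=
  mem_centralizer_iff.mpr fun a ha => (h a ha).eq

theorem commute_of_mem_centralizer {H : Subgroup G} {y a : G} (hy : y ∈ centralizer (H : Set G))
    (ha : a ∈ H) : Commute a y :=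
  mem_centralizer_iff.mp hy a ha

variable [Finite G]

theorem card_coprime {r s : ℕ} [hr : Fact r.Prime] [hs : Fact s.Prime] (h : r ≠ s)
    {A K : Subgroup G} (hA : IsPGroup r A) (hK : IsPGroup s K) :
    (Nat.card A).Coprime (Nat.card K) := by
  obtain ⟨a, ha⟩ := IsPGroup.iff_card.mp hA
  obtain ⟨k, hk⟩ := IsPGroup.iff_card.mp hK
  rw [ha, hk]
  exact Nat.Coprime.pow a k ((Nat.coprime_primes hr.out hs.out).mpr h)

/-- An element of prime order outside a subgroup generates a subgroup meeting it trivially. -/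
theorem eq_one_of_mem_zpowers_of_mem {r : ℕ} [hr : Fact r.Prime] {H : Subgroup G} {x y : G}
    (hx : x ^ r = 1) (hxH : x ∉ H) (hy : y ∈ zpowers x) (hyH : y ∈ H) : y = 1 := by
  have hx1 : x ≠ 1 := fun h => hxH (h ▸ one_mem H)
  have hcard : Nat.card (zpowers x) = r := by rw [Nat.card_zpowers, orderOf_eq_prime hx hx1]
  have hd : Nat.card ↥(H ⊓ zpowers x) ∣ r := hcard ▸ card_dvd_of_le inf_le_right
  rcases (Nat.dvd_prime hr.out).mp hd with h | h
  · exact (eq_bot_iff_forall _).mp (eq_bot_of_card_eq _ h) y ⟨hyH, hy⟩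
  · exfalso
    refine hxH ?_
    have := eq_of_le_of_card_ge (inf_le_right : H ⊓ zpowers x ≤ zpowers x) (by rw [h, hcard])
    exact (this.ge (mem_zpowers x)).1

theorem card_sup_zpowers {r : ℕ} [hr : Fact r.Prime] {H : Subgroup G} {x : G} (hx : x ^ r = 1)
    (hn : x ∈ normalizer (H : Set G)) (hxH : x ∉ H) :
    Nat.card ↥(H ⊔ zpowers x) = Nat.card H * r := by
  have h := Thompson.card_sup_mul_card_inf (H := H) (K := zpowers x) (zpowers_le.mpr hn)
  have hb : H ⊓ zpowers x = ⊥ := (eq_bot_iff_forall _).mpr fun y hy =>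
    eq_one_of_mem_zpowers_of_mem hx hxH hy.2 hy.1
  have hx1 : x ≠ 1 := fun h => hxH (h ▸ one_mem H)
  rw [hb, card_bot, mul_one, Nat.card_zpowers, orderOf_eq_prime hx hx1] at h
  exact h

/-- Adjoining a commuting element to an elementary abelian subgroup. -/
theorem elem_sup {r : ℕ} [hr : Fact r.Prime] {H : Subgroup G} (hH : Cfsg.IsElementaryAbelian r H)
    {x : G} (hx : x ^ r = 1) (hc : ∀ h ∈ H, Commute h x) (hxH : x ∉ H) :
    Cfsg.IsElementaryAbelian r (H ⊔ zpowers x) ∧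
      Nat.card ↥(H ⊔ zpowers x) = Nat.card H * r := by
  have hn : x ∈ normalizer (H : Set G) :=
    centralizer_le_normalizer (H : Set G) (mem_centralizer_of_commute hc)
  refine ⟨⟨⟨⟨fun a b => ?_⟩⟩, fun a ha => ?_⟩, card_sup_zpowers hx hn hxH⟩
  · obtain ⟨h, hh, s, hs, ha⟩ := mem_sup_zpowers hn a.2
    obtain ⟨k, hk, t, ht, hb⟩ := mem_sup_zpowers hn b.2
    obtain ⟨i, rfl⟩ := mem_zpowers_iff.mp hs
    obtain ⟨j, rfl⟩ := mem_zpowers_iff.mp ht
    apply Subtype.ext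
    show (a : G) * b = b * a
    rw [ha, hb]
    have c1 : Commute (h * x ^ i) k :=
      (commute_of_elem hH hh hk).mul_left ((hc k hk).symm.zpow_left i)
    have c2 : Commute (h * x ^ i) (x ^ j) :=
      ((hc h hh).zpow_right j).mul_left ((Commute.refl x).zpow_zpow i j)
    exact (c1.mul_right c2).eq
  · obtain ⟨h, hh, s, hs, rfl⟩ := mem_sup_zpowers hn ha
    obtain ⟨i, rfl⟩ := mem_zpowers_iff.mp hs
    rw [((hc h hh).zpow_right i).mul_pow, hH.2 h hh, one_mul, ← zpow_natCast, ← zpow_mul,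
      mul_comm i, zpow_mul, zpow_natCast, hx, one_zpow]

theorem elem_zpowers {r : ℕ} [hr : Fact r.Prime] {x : G} (hx : x ^ r = 1) (hx1 : x ≠ 1) :
    Cfsg.IsElementaryAbelian r (zpowers x) ∧ Nat.card (zpowers x) = r := by
  refine ⟨⟨⟨⟨fun a b => ?_⟩⟩, fun a ha => ?_⟩, by rw [Nat.card_zpowers, orderOf_eq_prime hx hx1]⟩
  · obtain ⟨i, hi⟩ := mem_zpowers_iff.mp a.2
    obtain ⟨j, hj⟩ := mem_zpowers_iff.mp b.2
    apply Subtype.ext
    show (a : G) * b = b * a
    rw [← hi, ← hj]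
    exact ((Commute.refl x).zpow_zpow i j).eq
  · obtain ⟨i, rfl⟩ := mem_zpowers_iff.mp ha
    rw [← zpow_natCast, ← zpow_mul, mul_comm i, zpow_mul, zpow_natCast, hx, one_zpow]

theorem exists_hyperplane {r : ℕ} [hr : Fact r.Prime] {A : Subgroup G}
    (hA : Cfsg.IsElementaryAbelian r A) (hA1 : A ≠ ⊥) :
    ∃ C : Subgroup G, C ≤ A ∧ Nat.card C * r = Nat.card A := by
  haveI : Nontrivial ↥A := A.nontrivial_iff_ne_bot.mpr hA1
  obtain ⟨M, -, -, hM⟩ :=
    PGroup.exists_le_index_eq_prime (isPGroup_of_elem hA) (bot_ne_top : (⊥ : Subgroup ↥A) ≠ ⊤)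
  refine ⟨M.map A.subtype, map_subtype_le _, ?_⟩
  rw [card_map_of_injective A.subtype_injective, ← hM, card_mul_index]

/-- Generation by the centralisers of hyperplanes. -/
theorem le_of_hyperplanes {r : ℕ} [hr : Fact r.Prime] {A K H : Subgroup G}
    (hA : Cfsg.IsElementaryAbelian r A) (hA1 : A ≠ ⊥) (hAK : A ≤ normalizer (K : Set G))
    (hcop : (Nat.card A).Coprime (Nat.card K))
    (h : ∀ C : Subgroup G, C ≤ A → Nat.card C * r = Nat.card A →
      K ⊓ centralizer (C : Set G) ≤ H) : K ≤ H := by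
  by_contra hno
  obtain ⟨C, ⟨hCA, hC⟩, hmax⟩ := (Set.toFinite
    {C : Subgroup G | C ≤ A ∧ ¬ K ⊓ centralizer (C : Set G) ≤ H}).exists_maximal
      ⟨⊥, bot_le, fun hle => hno fun k hk =>
        hle ⟨hk, mem_centralizer_iff.mpr fun y hy => by simp [mem_bot.mp hy]⟩⟩
  by_cases hAC : A ≤ C
  · obtain ⟨C₀, hC₀, hc₀⟩ := exists_hyperplane hA hA1
    exact hC ((inf_le_inf_left K (centralizer_le (show (C₀ : Set G) ⊆ C from
      fun y hy => hAC (hC₀ hy)))).trans (h C₀ hC₀ hc₀))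
  obtain ⟨a, haA, haC⟩ := SetLike.not_le_iff_exists.mp hAC
  have hcC : ∀ {e : G}, e ∈ A → ∀ c ∈ C, Commute c e := fun he c hc =>
    commute_of_elem hA (hCA hc) he
  obtain ⟨hC1, hC1c⟩ := elem_sup (elem_of_le hA hCA) (hA.2 a haA) (hcC haA) haC
  by_cases hAC1 : A ≤ C ⊔ zpowers a
  · have hle : C ⊔ zpowers a ≤ A := sup_le hCA (zpowers_le.mpr haA)
    exact hC (h C hCA (by rw [← hC1c, le_antisymm hle hAC1]))
  obtain ⟨b, hbA, hbC⟩ := SetLike.not_le_iff_exists.mp hAC1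
  have ha1 : a ≠ 1 := fun h => haC (h ▸ one_mem C)
  obtain ⟨hEa, hEac⟩ := elem_zpowers (hA.2 a haA) ha1
  have hbz : b ∉ zpowers a := fun hb => hbC (mem_sup_right hb)
  have hab : ∀ t ∈ zpowers a, Commute t b := fun t ht =>
    commute_of_elem hA ((zpowers_le.mpr haA) ht) hbA
  obtain ⟨hD, hDc⟩ := elem_sup hEa (hA.2 b hbA) hab hbz
  have hDA : zpowers a ⊔ zpowers b ≤ A := sup_le (zpowers_le.mpr haA) (zpowers_le.mpr hbA)
  haveI := hD.1
  have hncyc : ¬ IsCyclic ↥(zpowers a ⊔ zpowers b) := by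
    intro hcy
    obtain ⟨g, hg⟩ := IsCyclic.exists_ofOrder_eq_natCard (α := ↥(zpowers a ⊔ zpowers b))
    have hgr : orderOf g ∣ r := orderOf_dvd_of_pow_eq_one (Subtype.ext (hD.2 g g.2))
    rw [hg, hDc, hEac] at hgr
    have h2 := Nat.le_of_dvd hr.out.pos hgr
    have h3 : r * 1 < r * r := Nat.mul_lt_mul_of_pos_left hr.out.one_lt hr.out.pos
    omega
  have hAN : A ≤ normalizer ((K ⊓ centralizer (C : Set G) : Subgroup G) : Set G) :=
    LocalEven64.le_normalizer_inf hAK (LocalEven64.le_normalizer_centralizer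
      ((le_centralizer_elem hA hCA).trans (centralizer_le_normalizer _)))
  refine hC (Coprime.le_of_centralizer_le (zpowers a ⊔ zpowers b) _ H hncyc (hDA.trans hAN)
    ((hcop.coprime_dvd_left (card_dvd_of_le hDA)).coprime_dvd_right (card_dvd_of_le inf_le_left))
    ?_)
  intro e he he1
  have heC : e ∉ C := by
    intro heC
    obtain ⟨s, hs, t, ht, rfl⟩ := mem_sup_zpowers
      (centralizer_le_normalizer _ (mem_centralizer_of_commute hab)) he
    have ht1 : t ∈ C ⊔ zpowers a := by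
      have := mul_mem (inv_mem (show s ∈ C ⊔ zpowers a from mem_sup_right hs))
        (show s * t ∈ C ⊔ zpowers a from mem_sup_left heC)
      rwa [inv_mul_cancel_left] at this
    obtain rfl := eq_one_of_mem_zpowers_of_mem (hA.2 b hbA) hbC ht ht1
    rw [mul_one] at heC he1
    exact he1 (eq_one_of_mem_zpowers_of_mem (hA.2 a haA) haC hs heC)
  have hle : K ⊓ centralizer ((C ⊔ zpowers e : Subgroup G) : Set G) ≤ H := by
    by_contra hne
    exact heC (hmax ⟨sup_le hCA (zpowers_le.mpr (hDA he)), hne⟩ le_sup_left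
      (mem_sup_right (mem_zpowers e)))
  rintro y ⟨⟨hyK, hyC⟩, hye⟩
  exact hle ⟨hyK, mem_centralizer_sup hyC (by rwa [centralizer_zpowers])⟩

/-- Two distinct hyperplanes. -/
theorem hyperplanes_sup_inf {r : ℕ} [hr : Fact r.Prime] {A C D : Subgroup G}
    (hA : Cfsg.IsElementaryAbelian r A) (hC : C ≤ A) (hD : D ≤ A)
    (hCc : Nat.card C * r = Nat.card A) (hDc : Nat.card D * r = Nat.card A) (hne : C ≠ D) :
    C ⊔ D = A ∧ Nat.card ↥(C ⊓ D) * r * r = Nat.card A := by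
  have hle : C ⊔ D ≤ A := sup_le hC hD
  obtain ⟨k, hk⟩ := card_dvd_of_le (le_sup_left : C ≤ C ⊔ D)
  have hkr : k ∣ r := Nat.dvd_of_mul_dvd_mul_left Nat.card_pos (by
    rw [← hk, hCc]; exact card_dvd_of_le hle)
  have hsup : C ⊔ D = A := by
    rcases (Nat.dvd_prime hr.out).mp hkr with rfl | rfl
    · exfalso
      rw [mul_one] at hk
      have hDC : D ≤ C := by
        have := eq_of_le_of_card_ge (le_sup_left : C ≤ C ⊔ D) hk.le
        exact this ▸ le_sup_right
      exact hne (eq_of_le_of_card_ge hDC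
        (le_of_eq (Nat.eq_of_mul_eq_mul_right hr.out.pos (hCc.trans hDc.symm)))).symm
    · exact eq_of_le_of_card_ge hle (by rw [hk, hCc])
  refine ⟨hsup, ?_⟩
  have h := Thompson.card_sup_mul_card_inf (H := C) (K := D)
    ((hD.trans (le_centralizer_elem hA hC)).trans (centralizer_le_normalizer _))
  rw [hsup] at h
  refine Nat.eq_of_mul_eq_mul_left (Nat.card_pos (α := A)) ?_
  calc Nat.card A * (Nat.card ↥(C ⊓ D) * r * r)
      = (Nat.card A * Nat.card ↥(C ⊓ D)) * r * r := by ring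
    _ = (Nat.card C * r) * (Nat.card D * r) := by rw [h]; ring
    _ = Nat.card A * Nat.card A := by rw [hCc, hDc]

theorem mem_normalizer_commutator {K X : Subgroup G} {g : G} (hK : g ∈ normalizer (K : Set G))
    (hX : g ∈ normalizer (X : Set G)) : g ∈ normalizer ((⁅K, X⁆ : Subgroup G) : Set G) := by
  rw [mem_normalizer_iff_map_conj_eq, map_commutator, mem_normalizer_iff_map_conj_eq.mp hK,
    mem_normalizer_iff_map_conj_eq.mp hX]

/-- If `K = [K, A]`, a subgroup centralised by `A` whose commutators with `K` are centralised by `A`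
is centralised by `K`. -/
theorem le_centralizer_of_commutator {A K D : Subgroup G} (hKA : K ≤ ⁅K, A⁆)
    (hD : D ≤ centralizer (A : Set G)) (hDK : ⁅D, K⁆ ≤ centralizer (A : Set G)) :
    D ≤ centralizer (K : Set G) := by
  have h1 : ⁅⁅A, D⁆, K⁆ = ⊥ := by
    rw [commutator_comm A D, commutator_eq_bot_iff_le_centralizer.mpr hD, commutator_bot_left]
  have h2 : ⁅⁅D, K⁆, A⁆ = ⊥ := commutator_eq_bot_iff_le_centralizer.mpr hDK
  have h3 : ⁅⁅K, A⁆, D⁆ = ⊥ := commutator_commutator_eq_bot_of_rotate h1 h2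
  refine commutator_eq_bot_iff_le_centralizer.mp ?_
  rw [commutator_comm]
  exact le_bot_iff.mp ((commutator_mono hKA le_rfl).trans h3.le)

/-- Squares in a group generated by commutators with `A`. -/
theorem sq_mem_of_commutator {A K Z : Subgroup G} (hAK : A ≤ normalizer (K : Set G))
    (hKA : K ≤ ⁅K, A⁆) (hZ : ∀ ζ ∈ Z, ∀ k ∈ K, Commute ζ k)
    (hc : ∀ x ∈ K, ∀ y ∈ K, ⁅x, y⁆ ∈ Z) (hs : ∀ x ∈ K, x * x ∈ centralizer (A : Set G)) :
    ∀ k ∈ K, k * k ∈ Z := by
  have key : ∀ x ∈ K, ∀ y ∈ K, x * y * (x * y) = x * x * (y * y) * ⁅y⁻¹, x⁻¹⁆ := by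
    intro x hx y hy
    have hyx : y * x = x * y * ⁅y⁻¹, x⁻¹⁆ := by rw [commutatorElement_def]; group
    have hcy : ⁅y⁻¹, x⁻¹⁆ * y = y * ⁅y⁻¹, x⁻¹⁆ :=
      (hZ _ (hc _ (inv_mem hy) _ (inv_mem hx)) y hy).eq
    calc x * y * (x * y) = x * (y * x) * y := by group
      _ = x * (x * y * ⁅y⁻¹, x⁻¹⁆) * y := by rw [hyx]
      _ = x * x * y * (⁅y⁻¹, x⁻¹⁆ * y) := by group
      _ = x * x * y * (y * ⁅y⁻¹, x⁻¹⁆) := by rw [hcy]
      _ = x * x * (y * y) * ⁅y⁻¹, x⁻¹⁆ := by group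
  let S : Subgroup G :=
    { carrier := {k | k ∈ K ∧ k * k ∈ Z}
      one_mem' := ⟨one_mem K, by simp⟩
      mul_mem' := fun {x y} hx hy => ⟨mul_mem hx.1 hy.1, by
        rw [key x hx.1 y hy.1]
        exact mul_mem (mul_mem hx.2 hy.2) (hc _ (inv_mem hy.1) _ (inv_mem hx.1))⟩
      inv_mem' := fun {x} hx => ⟨inv_mem hx.1, by
        rw [← mul_inv_rev]; exact inv_mem hx.2⟩ }
  have hS : ⁅K, A⁆ ≤ S := by
    refine commutator_le.mpr fun k hk a ha => ?_
    have hg : a * k⁻¹ * a⁻¹ ∈ K := Coprime.conj_mem_of_mem_normalizer (hAK ha) (inv_mem hk)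
    have e : ⁅k, a⁆ = k * (a * k⁻¹ * a⁻¹) := by rw [commutatorElement_def]; group
    rw [e]
    refine ⟨mul_mem hk hg, ?_⟩
    rw [key k hk _ hg]
    have hgg : a * k⁻¹ * a⁻¹ * (a * k⁻¹ * a⁻¹) = (k * k)⁻¹ := by
      have h := mem_centralizer_iff.mp (inv_mem (hs k hk)) a ha
      calc a * k⁻¹ * a⁻¹ * (a * k⁻¹ * a⁻¹) = a * (k * k)⁻¹ * a⁻¹ := by group
        _ = (k * k)⁻¹ * a * a⁻¹ := by rw [h]
        _ = _ := by group
    rw [hgg, mul_inv_cancel, one_mul]
    exact hc _ (inv_mem hg) _ (inv_mem hk)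
  exact fun k hk => (hS (hKA hk)).2

/-- Commutators and squares of a moved group all of whose commutators and squares are fixed. -/
theorem comm_and_sq_mem {A K : Subgroup G} {z : G} (hAK : A ≤ normalizer (K : Set G))
    (hKA : K ≤ ⁅K, A⁆) (hzK : ∀ k ∈ K, Commute z k)
    (hfix : ∀ f ∈ K, f ∈ centralizer (A : Set G) → f * f = 1 → f ∈ zpowers z)
    (hc : ∀ x ∈ K, ∀ y ∈ K, ⁅x, y⁆ ∈ centralizer (A : Set G))
    (hs : ∀ x ∈ K, x * x ∈ centralizer (A : Set G)) :
    (∀ x ∈ K, ∀ y ∈ K, ⁅x, y⁆ ∈ zpowers z) ∧ ∀ x ∈ K, x * x ∈ zpowers z := by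
  have hcen : K ⊓ centralizer (A : Set G) ≤ centralizer (K : Set G) :=
    le_centralizer_of_commutator hKA inf_le_right
      (commutator_le.mpr fun x hx y hy => hc x hx.1 y hy)
  have hK : ∀ x ∈ K, ∀ y ∈ K, ⁅x, y⁆ ∈ K := fun x hx y hy => by
    rw [commutatorElement_def]
    exact mul_mem (mul_mem (mul_mem hx hy) (inv_mem hx)) (inv_mem hy)
  have h1 : ∀ x ∈ K, ∀ y ∈ K, ⁅x, y⁆ ∈ zpowers z := by
    intro x hx y hy
    refine hfix _ (hK x hx y hy) (hc x hx y hy) ?_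
    have hxc : x * ⁅x, y⁆ = ⁅x, y⁆ * x :=
      commute_of_mem_centralizer (hcen ⟨hK x hx y hy, hc x hx y hy⟩) hx
    have hyc : y * (x * x) = x * x * y :=
      commute_of_mem_centralizer (hcen ⟨mul_mem hx hx, hs x hx⟩) hy
    have e : ⁅x * x, y⁆ = x * ⁅x, y⁆ * x⁻¹ * ⁅x, y⁆ := by
      rw [commutatorElement_def, commutatorElement_def]; group
    rw [commutatorElement_eq_one_iff_mul_comm.mpr hyc.symm, hxc, mul_inv_cancel_right] at e
    exact e.symm
  refine ⟨h1, sq_mem_of_commutator hAK hKA (fun ζ hζ k hk => ?_) h1 hs⟩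
  obtain ⟨i, rfl⟩ := mem_zpowers_iff.mp hζ
  exact (hzK k hk).zpow_left i

/-- A minimal invariant subgroup moved by `X`. -/
theorem exists_minimal {M X L : Subgroup G} (hXM : X ≤ M) (hMX : M ≤ normalizer (X : Set G))
    (hML : M ≤ normalizer (L : Set G)) (hcop : (Nat.card X).Coprime (Nat.card L))
    (hsolv : Group.IsSolvable X) (hne : ¬ L ≤ centralizer (X : Set G)) :
    ∃ K, K ≤ L ∧ M ≤ normalizer (K : Set G) ∧ ¬ K ≤ centralizer (X : Set G) ∧ K ≤ ⁅K, X⁆ ∧
      ∀ D, D ≤ K → D ≠ K → M ≤ normalizer (D : Set G) → D ≤ centralizer (X : Set G) := by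
  obtain ⟨K, ⟨hKL, hMK, hK⟩, hmin⟩ := (Set.toFinite {K : Subgroup G |
    K ≤ L ∧ M ≤ normalizer (K : Set G) ∧ ¬ K ≤ centralizer (X : Set G)}).exists_minimal
      ⟨L, le_rfl, hML, hne⟩
  have hmin' : ∀ D, D ≤ K → D ≠ K → M ≤ normalizer (D : Set G) → D ≤ centralizer (X : Set G) := by
    intro D hDK hne' hMD
    by_contra hD
    exact hne' (le_antisymm hDK (hmin ⟨hDK.trans hKL, hMD, hD⟩ hDK))
  refine ⟨K, hKL, hMK, hK, ?_, hmin'⟩
  by_contra hKX
  have hXK : X ≤ normalizer (K : Set G) := hXM.trans hMK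
  have hle : ⁅K, X⁆ ≤ K := Coprime.commutator_le_of_le_normalizer hXK
  have hfix := hmin' ⁅K, X⁆ hle (fun h => hKX h.ge)
    fun g hg => mem_normalizer_commutator (hMK hg) (hMX hg)
  apply hK
  rw [← commutator_eq_bot_iff_le_centralizer, ← Coprime.commutator_commutator_eq X K hXK
    (hcop.coprime_dvd_right (card_dvd_of_le hKL)) (Or.inl hsolv)]
  exact commutator_eq_bot_iff_le_centralizer.mpr hfix

/-- The image of the Frattini subgroup of a nontrivial two-group. -/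
theorem frattini_map_facts {K : Subgroup G} (hK : IsPGroup 2 K) (hne : K ≠ ⊥) :
    (frattini K).map K.subtype ≤ K ∧ (frattini K).map K.subtype ≠ K ∧
      normalizer (K : Set G) ≤ normalizer ((frattini K).map K.subtype : Set G) ∧
      (∀ x ∈ K, ∀ y ∈ K, ⁅x, y⁆ ∈ (frattini K).map K.subtype) ∧
      ∀ x ∈ K, x * x ∈ (frattini K).map K.subtype := by
  haveI : Fact (Nat.Prime 2) := ⟨Nat.prime_two⟩
  refine ⟨map_subtype_le _, fun h => ?_, Coprime.normalizer_le_normalizer_map K _, ?_, ?_⟩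
  · haveI : Nontrivial ↥K := K.nontrivial_iff_ne_bot.mpr hne
    obtain ⟨M, hM, -⟩ :=
      (IsCoatomic.eq_top_or_exists_le_coatom (⊥ : Subgroup K)).resolve_left bot_ne_top
    refine hM.1 (top_le_iff.mp fun k _ => ?_)
    obtain ⟨y, hy, hyk⟩ := h.ge k.2
    exact (Subtype.ext hyk : y = k) ▸ frattini_le_coatom hM hy
  · exact fun x hx y hy => ⟨_, PGroup.comm_mem_frattini hK ⟨x, hx⟩ ⟨y, hy⟩, rfl⟩
  · intro x hx
    exact ⟨⟨x, hx⟩ ^ 2, PGroup.pow_mem_frattini hK _, by simp [pow_two]⟩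

/-- A coprime translation by a fixed element is trivial. -/
theorem eq_one_of_conj_eq_mul {p : ℕ} [Fact p.Prime] (hp2 : p ≠ 2) {Q : Subgroup G}
    (hQ : IsPGroup 2 Q) {a x f : G} (hap : a ^ p = 1) (hf : Commute a f) (hfQ : f ∈ Q)
    (h : a * x * a⁻¹ = x * f) : f = 1 := by
  have hn : ∀ n : ℕ, a ^ n * x * (a ^ n)⁻¹ = x * f ^ n := by
    intro n
    induction n with
    | zero => simp
    | succ n ih =>
      calc a ^ (n + 1) * x * (a ^ (n + 1))⁻¹ = a * (a ^ n * x * (a ^ n)⁻¹) * a⁻¹ := by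
            rw [pow_succ']; group
        _ = a * (x * f ^ n) * a⁻¹ := by rw [ih]
        _ = (a * x * a⁻¹) * (a * f ^ n * a⁻¹) := by group
        _ = x * f * f ^ n := by rw [h, (hf.pow_right n).eq, mul_inv_cancel_right]
        _ = x * f ^ (n + 1) := by rw [pow_succ', mul_assoc]
  have hfp : f ^ p = 1 := by
    have := hn p
    rw [hap] at this
    simpa using this
  haveI : Fact (Nat.Prime 2) := ⟨Nat.prime_two⟩
  exact LocalEven64.eq_one_of_mem_pGroup hQ hfQ
    (Nat.Coprime.coprime_dvd_left (orderOf_dvd_of_pow_eq_one hfp)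
      ((Nat.coprime_primes Fact.out Nat.prime_two).mpr hp2))

end Cfsg.Agent.Class49.KM
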