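import Mathlib
import Cfsg.Agent.Class49.CharTwoLocal
import Cfsg.Agent.Class49.KlingerMasonTools

/-!
The theorem of Klinger and Mason: a group of local characteristic `p`, `p` odd, and of
characteristic two type has two-local `p`-rank at most two.
-/

set_option autoImplicit false

namespace Cfsg.Agent.Class49.KM

open Subgroup
open scoped commutatorElement

variable {G : Type*} [Group G] [Finite G] {p m : ℕ} [hpf : Fact p.Prime]

/-- The standing hypotheses. -/
structure Hyp (p m : ℕ) (G : Type*) [Group G] : Prop where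
  ne_two : p ≠ 2
  three_le : 3 ≤ m
  charP : ∀ B : Subgroup G, IsPGroup p B → B ≠ ⊥ →
    LocalEven64.CharPOf p (centralizer (B : Set G))
  charTwo : ∀ z : G, orderOf z = 2 → LocalEven64.CharPOf 2 (centralizer ({z} : Set G))
  max : ∀ A T : Subgroup G, Cfsg.IsElementaryAbelian p A → IsPGroup 2 T → T ≠ ⊥ →
    A ≤ normalizer (T : Set G) → Nat.card A ≤ p ^ m

theorem kernel (hy : Hyp p m G) {B R : Subgroup G} (hB : Cfsg.IsElementaryAbelian p B)
    (hB1 : B ≠ ⊥) (hR : Cfsg.IsElementaryAbelian 2 R) (hR1 : R ≠ ⊥)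
    (hRB : R ≤ centralizer (B : Set G)) :
    ∃ H₀ : Subgroup G, ∃ x r : G, H₀ ≤ R ∧ Nat.card H₀ * 2 = Nat.card R ∧ r ∈ R ∧
      x ∈ Cfsg.pCoreOf p (centralizer (B : Set G)) ∧ x ^ p = 1 ∧ x ≠ 1 ∧ r * x * r⁻¹ = x⁻¹ ∧
      x ∉ B ∧ (∀ b ∈ B, Commute b x) ∧ H₀ ≤ centralizer ({x} : Set G) := by
  haveI : Fact (Nat.Prime 2) := ⟨Nat.prime_two⟩
  set P := Cfsg.pCoreOf p (centralizer (B : Set G)) with hPdef
  have hPp : IsPGroup p P := LocalEven64.isPGroup_pCoreOf _
  have hRP : R ≤ normalizer (P : Set G) := hRB.trans (LocalEven64.le_normalizer_pCoreOf _)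
  have hnot : ¬ P ≤ centralizer (R : Set G) := by
    intro hle
    apply hR1
    refine (eq_bot_iff_forall _).mpr fun r hr => ?_
    refine (hy.charP B (isPGroup_of_elem hB) hB1).eq_one (hRB hr) ?_
      (mem_centralizer_iff.mpr fun y hy' => (commute_of_mem_centralizer (hle hy') hr).symm.eq)
    exact Nat.Coprime.coprime_dvd_left (orderOf_dvd_of_pow_eq_one (hR.2 r hr))
      ((Nat.coprime_primes Nat.prime_two hpf.out).mpr hy.ne_two.symm)
  obtain ⟨H₀, hH₀R, hH₀c, hH₀⟩ : ∃ H₀ : Subgroup G, H₀ ≤ R ∧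
      Nat.card H₀ * 2 = Nat.card R ∧ ¬ P ⊓ centralizer (H₀ : Set G) ≤ centralizer (R : Set G) := by
    by_contra hno
    push Not at hno
    exact hnot (le_of_hyperplanes hR hR1 hRP
      (card_coprime hy.ne_two.symm (isPGroup_of_elem hR) hPp) hno)
  obtain ⟨y, ⟨hyP, hyH⟩, hyR⟩ := SetLike.not_le_iff_exists.mp hH₀
  obtain ⟨r, hr, hry⟩ : ∃ r ∈ R, ¬ Commute r y := by
    by_contra hno
    push Not at hno
    exact hyR (mem_centralizer_of_commute hno)
  have hrr : r * r = 1 := by rw [← pow_two]; exact hR.2 r hr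
  set x₀ := y⁻¹ * (r * y * r⁻¹) with hx₀
  have hx₀P : x₀ ∈ P := mul_mem (inv_mem hyP) ((mem_normalizer_iff.mp (hRP hr) y).mp hyP)
  have hx₀1 : x₀ ≠ 1 := fun h =>
    hry (mul_inv_eq_iff_eq_mul.mp (inv_mul_eq_one.mp h).symm)
  have hrinv : r * x₀ * r⁻¹ = x₀⁻¹ := by
    have hri : r⁻¹ = r := inv_eq_of_mul_eq_one_right hrr
    calc r * x₀ * r⁻¹ = r * y⁻¹ * r * y * (r⁻¹ * r⁻¹) := by rw [hx₀]; group
      _ = r * y⁻¹ * r * y := by rw [hri, hrr, mul_one]
      _ = r * y⁻¹ * r⁻¹ * y := by rw [hri]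
      _ = x₀⁻¹ := by rw [hx₀]; group
  have hH₀x : ∀ h ∈ H₀, Commute h x₀ := by
    intro h hh
    have h1 : Commute h y := commute_of_mem_centralizer hyH hh
    have h2 : Commute h r := commute_of_elem hR (hH₀R hh) hr
    exact h1.inv_right.mul_right ((h2.mul_right h1).mul_right h2.inv_right)
  obtain ⟨k, hk⟩ := IsPGroup.iff_orderOf.mp hPp ⟨x₀, hx₀P⟩
  rw [Subgroup.orderOf_mk] at hk
  obtain ⟨j, rfl⟩ : ∃ j, k = j + 1 := by
    rcases k with _ | j
    · rw [pow_zero, orderOf_eq_one_iff] at hk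
      exact absurd hk hx₀1
    · exact ⟨j, rfl⟩
  set x := x₀ ^ p ^ j with hxdef
  have hxp : x ^ p = 1 := by
    rw [hxdef, ← pow_mul, ← pow_succ, ← hk, pow_orderOf_eq_one]
  have hx1 : x ≠ 1 := by
    intro h
    have h2 := orderOf_dvd_of_pow_eq_one h
    rw [hk, Nat.pow_dvd_pow_iff_le_right hpf.out.one_lt] at h2
    omega
  have hinvx : r * x * r⁻¹ = x⁻¹ := by
    rw [hxdef, ← conj_pow, hrinv, inv_pow]
  have hxP : x ∈ P := pow_mem hx₀P _
  have hBx : ∀ b ∈ B, Commute b x := fun b hb =>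
    commute_of_mem_centralizer (LocalEven64.pCoreOf_le _ hxP) hb
  refine ⟨H₀, x, r, hH₀R, hH₀c, hr, hxP, hxp, hx1, hinvx, fun hxB => ?_, hBx, fun h hh =>
    mem_centralizer_singleton_iff.mpr ((hH₀x h hh).pow_right _).eq⟩
  have hrx : x * r = r * x := mem_centralizer_iff.mp (hRB hr) x hxB
  rw [← hrx, mul_inv_cancel_right, eq_inv_iff_mul_eq_one] at hinvx
  have hx2 : orderOf x ∣ 2 := orderOf_dvd_of_pow_eq_one (by rw [pow_two, hinvx])
  rw [orderOf_eq_prime hxp hx1] at hx2
  exact hy.ne_two ((Nat.prime_dvd_prime_iff_eq hpf.out Nat.prime_two).mp hx2)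

theorem ne_bot_of_card (hy : Hyp p m G) {B : Subgroup G} {i : ℕ} (hi : i ≤ 2)
    (h : p ^ m ≤ Nat.card B * p ^ i) : B ≠ ⊥ := by
  rintro rfl
  rw [card_bot, one_mul] at h
  have := hy.three_le
  exact absurd h (not_le.mpr (Nat.pow_lt_pow_right hpf.out.one_lt (by omega)))

/-- Elementary two-groups centralised by large elementary `p`-groups are small. -/
theorem bound (hy : Hyp p m G) : ∀ i ≤ 2, ∀ B R : Subgroup G, Cfsg.IsElementaryAbelian p B →
    p ^ m ≤ Nat.card B * p ^ i → Cfsg.IsElementaryAbelian 2 R → R ≤ centralizer (B : Set G) →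
    Nat.card R ≤ 2 ^ (i + 1) := by
  intro i
  induction i with
  | zero =>
    intro hi B R hB hBc hR hRB
    by_contra hlt
    have hR1 : R ≠ ⊥ := fun h => by rw [h, card_bot] at hlt; simp at hlt
    obtain ⟨H₀, x, r, hH₀R, hH₀c, hr, -, hxp, hx1, -, hxB, hBx, hH₀x⟩ :=
      kernel hy hB (ne_bot_of_card hy hi hBc) hR hR1 hRB
    have hH1 : H₀ ≠ ⊥ := fun h => by
      rw [h, card_bot] at hH₀c
      simp at hlt
      omega
    obtain ⟨hB', hB'c⟩ := elem_sup hB hxp hBx hxB
    have hn : B ⊔ zpowers x ≤ normalizer (H₀ : Set G) := by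
      refine le_trans (sup_le ?_ ?_) (centralizer_le_normalizer _)
      · exact le_centralizer_iff.mp (hH₀R.trans hRB)
      · rw [zpowers_le]
        exact mem_centralizer_of_commute fun h hh =>
          mem_centralizer_singleton_iff.mp (hH₀x hh)
    have := hy.max _ H₀ hB' (isPGroup_of_elem (elem_of_le hR hH₀R)) hH1 hn
    rw [hB'c, pow_zero, mul_one] at *
    have h1 := Nat.mul_lt_mul_of_pos_left hpf.out.one_lt (Nat.card_pos (α := B))
    omega
  | succ i ih =>
    intro hi B R hB hBc hR hRB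
    by_contra hlt
    have hR1 : R ≠ ⊥ := fun h => by
      rw [h, card_bot] at hlt
      exact hlt (Nat.one_le_pow _ _ (by norm_num))
    obtain ⟨H₀, x, r, hH₀R, hH₀c, hr, -, hxp, hx1, -, hxB, hBx, hH₀x⟩ :=
      kernel hy hB (ne_bot_of_card hy hi hBc) hR hR1 hRB
    obtain ⟨hB', hB'c⟩ := elem_sup hB hxp hBx hxB
    have := ih (by omega) _ H₀ hB' (by rw [hB'c, mul_assoc, ← pow_succ']; exact hBc)
      (elem_of_le hR hH₀R) fun h hh => mem_centralizer_sup ((hH₀R.trans hRB) hh)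
        (by rw [centralizer_zpowers]; exact hH₀x hh)
    apply hlt
    rw [← hH₀c, pow_succ]
    exact Nat.mul_le_mul_right _ this

/-- An involution centralised by a largest elementary abelian `p`-subgroup. -/
structure Ctx (p m : ℕ) (A : Subgroup G) (z : G) : Prop where
  elem : Cfsg.IsElementaryAbelian p A
  card : p ^ m ≤ Nat.card A
  order : orderOf z = 2
  le_cent : A ≤ centralizer ({z} : Set G)

/-- `O_2(C(z))`. -/
noncomputable abbrev twoCore (z : G) : Subgroup G :=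
  Cfsg.pCoreOf 2 (centralizer ({z} : Set G))

namespace Ctx

variable {A : Subgroup G} {z : G}

theorem mul_self (hc : Ctx p m A z) : z * z = 1 := by
  rw [← pow_two, ← hc.order, pow_orderOf_eq_one]

theorem ne_one (hc : Ctx p m A z) : z ≠ 1 := fun h => by simpa [h] using hc.order

theorem zpowers_mem_centralizer (hc : Ctx p m A z) :
    zpowers z ≤ centralizer (A : Set G) :=
  zpowers_le.mpr (mem_centralizer_of_commute fun a ha =>
    mem_centralizer_singleton_iff.mp (hc.le_cent ha))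

theorem normalizes (hc : Ctx p m A z) : A ≤ normalizer (twoCore z : Set G) :=
  hc.le_cent.trans (LocalEven64.le_normalizer_pCoreOf _)

theorem commute_core (_hc : Ctx p m A z) {q : G} (hq : q ∈ twoCore z) : Commute z q :=
  (mem_centralizer_singleton_iff.mp (LocalEven64.pCoreOf_le _ hq)).symm

theorem mem_core (hc : Ctx p m A z) : z ∈ twoCore z := by
  haveI : Fact (Nat.Prime 2) := ⟨Nat.prime_two⟩
  refine LocalEven64.le_pCoreOf (N := zpowers z)
    (zpowers_le.mpr (mem_centralizer_singleton_iff.mpr rfl)) ?_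
    (isPGroup_of_elem (elem_zpowers (by rw [pow_two, hc.mul_self]) hc.ne_one).1) (mem_zpowers z)
  rw [← centralizer_zpowers]
  exact centralizer_le_normalizer _

theorem ne_bot (hy : Hyp p m G) (hc : Ctx p m A z) : A ≠ ⊥ :=
  ne_bot_of_card hy (i := 0) (by omega) (by simpa using hc.card)

theorem faithful (hy : Hyp p m G) (hc : Ctx p m A z) {a : G} (ha : a ∈ A)
    (h : a ∈ centralizer (twoCore z : Set G)) : a = 1 := by
  haveI : Fact (Nat.Prime 2) := ⟨Nat.prime_two⟩
  exact (hy.charTwo z hc.order).eq_one (hc.le_cent ha)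
    (Nat.Coprime.coprime_dvd_left (orderOf_dvd_of_pow_eq_one (hc.elem.2 a ha))
      ((Nat.coprime_primes hpf.out Nat.prime_two).mpr hy.ne_two)) h

theorem coprime (hy : Hyp p m G) (hc : Ctx p m A z) {K : Subgroup G} (hK : K ≤ twoCore z) :
    (Nat.card A).Coprime (Nat.card K) :=
  haveI : Fact (Nat.Prime 2) := ⟨Nat.prime_two⟩
  card_coprime hy.ne_two (isPGroup_of_elem hc.elem)
    ((LocalEven64.isPGroup_pCoreOf _).to_le hK)

theorem fixed_sq (hy : Hyp p m G) (hc : Ctx p m A z) {f : G} (hf : f ∈ twoCore z)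
    (hfA : f ∈ centralizer (A : Set G)) (hf2 : f * f = 1) : f ∈ zpowers z := by
  haveI : Fact (Nat.Prime 2) := ⟨Nat.prime_two⟩
  by_contra hfz
  obtain ⟨hz, hzc⟩ := elem_zpowers (r := 2) (by rw [pow_two, hc.mul_self]) hc.ne_one
  obtain ⟨hR, hRc⟩ := elem_sup hz (x := f) (by rw [pow_two, hf2]) (fun h hh => by
    obtain ⟨i, rfl⟩ := mem_zpowers_iff.mp hh
    exact (hc.commute_core hf).zpow_left i) hfz
  have := bound hy 0 (by omega) A _ hc.elem (by simpa using hc.card) hR
    (sup_le hc.zpowers_mem_centralizer (zpowers_le.mpr hfA))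
  rw [hRc, hzc] at this
  omega

/-- A moved element and its image. -/
theorem exists_moved (hy : Hyp p m G) (hc : Ctx p m A z) {u : G} (hu : u ∈ twoCore z)
    (huA : u ∉ centralizer (A : Set G)) :
    ∃ a ∈ A, a * u * a⁻¹ ∉ centralizer (A : Set G) ∧
      u⁻¹ * (a * u * a⁻¹) ∉ centralizer (A : Set G) := by
  haveI : Fact (Nat.Prime 2) := ⟨Nat.prime_two⟩
  obtain ⟨a, ha, hau⟩ : ∃ a ∈ A, ¬ Commute a u := by
    by_contra hno
    push Not at hno
    exact huA (mem_centralizer_of_commute hno)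
  have hu' : a * u * a⁻¹ ∈ twoCore z := Coprime.conj_mem_of_mem_normalizer (hc.normalizes ha) hu
  refine ⟨a, ha, fun h => hau ?_, fun h => hau ?_⟩
  · have h1 : Commute a (a * u * a⁻¹) := commute_of_mem_centralizer h ha
    show a * u = u * a
    calc a * u = a⁻¹ * (a * (a * u * a⁻¹)) * a := by group
      _ = a⁻¹ * ((a * u * a⁻¹) * a) * a := by rw [h1.eq]
      _ = u * a := by group
  · have h1 := eq_one_of_conj_eq_mul hy.ne_two (LocalEven64.isPGroup_pCoreOf _) (hc.elem.2 a ha)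
      (commute_of_mem_centralizer h ha) (mul_mem (inv_mem hu) hu') (mul_inv_cancel_left u _).symm
    exact mul_inv_eq_iff_eq_mul.mp (inv_mul_eq_one.mp h1).symm

/-- Abelian invariant subgroups of the core are centralised. -/
theorem abelian_le_centralizer (hy : Hyp p m G) (hc : Ctx p m A z) {L : Subgroup G}
    (hL : L ≤ twoCore z) (hAL : A ≤ normalizer (L : Set G))
    (hab : ∀ x ∈ L, ∀ y ∈ L, Commute x y) : L ≤ centralizer (A : Set G) := by
  haveI : Fact (Nat.Prime 2) := ⟨Nat.prime_two⟩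
  haveI := hc.elem.1
  by_contra hne
  obtain ⟨K, hKL, hAK, hK, hKA, hmin⟩ := exists_minimal le_rfl le_normalizer hAL
    (hc.coprime hy hL) (Group.isSolvable_of_comm fun a b => mul_comm' a b) hne
  have hKQ : K ≤ twoCore z := hKL.trans hL
  have hK2 : IsPGroup 2 K := (LocalEven64.isPGroup_pCoreOf _).to_le hKQ
  have hKne : K ≠ ⊥ := fun h => hK (h ▸ bot_le)
  obtain ⟨hD, hDne, hDn, -, hDs⟩ := frattini_map_facts hK2 hKne
  have hDA := hmin _ hD hDne (hAK.trans hDn)
  have hsq : ∀ k ∈ K, k * k = 1 := fun k hk => mem_bot.mp <|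
    sq_mem_of_commutator (Z := ⊥) hAK hKA (fun ζ hζ k _ => by simp [mem_bot.mp hζ])
      (fun x hx y hy => mem_bot.mpr (commutatorElement_eq_one_iff_mul_comm.mpr
        (hab x (hKL hx) y (hKL hy)).eq))
      (fun x hx => hDA (hDs x hx)) k hk
  obtain ⟨C, hCA, hCc, hC⟩ : ∃ C : Subgroup G, C ≤ A ∧ Nat.card C * p = Nat.card A ∧
      ¬ K ⊓ centralizer (C : Set G) ≤ centralizer (A : Set G) := by
    by_contra hno
    push Not at hno
    exact hK (le_of_hyperplanes hc.elem (hc.ne_bot hy) hAK (hc.coprime hy hKQ) hno)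
  obtain ⟨t, ⟨htK, htC⟩, htA⟩ := SetLike.not_le_iff_exists.mp hC
  obtain ⟨a, ha, ht', hd⟩ := hc.exists_moved hy (hKQ htK) htA
  set t' := a * t * a⁻¹ with ht'def
  have ht'K : t' ∈ K := Coprime.conj_mem_of_mem_normalizer (hAK ha) htK
  have haC : a ∈ centralizer (C : Set G) := le_centralizer_elem hc.elem hCA ha
  have ht'C : t' ∈ centralizer (C : Set G) := mul_mem (mul_mem haC htC) (inv_mem haC)
  have htt' : Commute t t' := hab t (hKL htK) t' (hKL ht'K)
  obtain ⟨hz, hzc⟩ := elem_zpowers (r := 2) (by rw [pow_two, hc.mul_self]) hc.ne_one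
  have hzq : ∀ h ∈ zpowers z, ∀ q ∈ twoCore z, Commute h q := fun h hh q hq => by
    obtain ⟨i, rfl⟩ := mem_zpowers_iff.mp hh
    exact (hc.commute_core hq).zpow_left i
  obtain ⟨hR2, hR2c⟩ := elem_sup hz (x := t) (by rw [pow_two, hsq t htK])
    (fun h hh => hzq h hh t (hKQ htK)) (fun h => htA (hc.zpowers_mem_centralizer h))
  obtain ⟨hR3, hR3c⟩ := elem_sup hR2 (x := t') (by rw [pow_two, hsq t' ht'K]) (fun h hh => by
      obtain ⟨u, hu, v, hv, rfl⟩ := mem_sup_zpowers (centralizer_le_normalizer _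
        (mem_centralizer_of_commute fun h hh => hzq h hh t (hKQ htK))) hh
      obtain ⟨i, rfl⟩ := mem_zpowers_iff.mp hv
      exact (hzq u hu t' (hKQ ht'K)).mul_left (htt'.zpow_left i))
    (fun h => by
      rcases mem_sup_two (hsq t htK) (centralizer_le_normalizer _
        (mem_centralizer_of_commute fun h hh => hzq h hh t (hKQ htK))) h with h | h
      · exact ht' (hc.zpowers_mem_centralizer h)
      · apply hd
        rw [inv_eq_of_mul_eq_one_right (hsq t htK), htt'.eq]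
        exact hc.zpowers_mem_centralizer h)
  have := bound hy 1 (by omega) C _ (elem_of_le hc.elem hCA) (by rw [pow_one, hCc]; exact hc.card)
    hR3 (sup_le (sup_le (hc.zpowers_mem_centralizer.trans
      (centralizer_le (show (C : Set G) ⊆ A from hCA))) (zpowers_le.mpr htC))
      (zpowers_le.mpr ht'C))
  rw [hR3c, hR2c, hzc] at this
  omega

/-- Commutators and squares in a minimal moved subgroup of the core. -/
theorem facts (hy : Hyp p m G) (hc : Ctx p m A z) {K : Subgroup G} (hKQ : K ≤ twoCore z)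
    (hAK : A ≤ normalizer (K : Set G)) (hKA : K ≤ ⁅K, A⁆)
    (hD : (frattini K).map K.subtype ≤ centralizer (A : Set G)) (hne : K ≠ ⊥) :
    (∀ x ∈ K, ∀ y ∈ K, ⁅x, y⁆ ∈ zpowers z) ∧ ∀ x ∈ K, x * x ∈ zpowers z := by
  obtain ⟨-, -, -, hDc, hDs⟩ :=
    frattini_map_facts ((LocalEven64.isPGroup_pCoreOf _).to_le hKQ) hne
  exact comm_and_sq_mem hAK hKA (fun k hk => hc.commute_core (hKQ hk))
    (fun f hf hfA hf2 => hc.fixed_sq hy (hKQ hf) hfA hf2)
    (fun x hx y hy => hD (hDc x hx y hy)) (fun x hx => hD (hDs x hx))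

end Ctx

end Cfsg.Agent.Class49.KM
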