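import Mathlib
import Cfsg.Agent.Class49.KlingerMason

/-!
The two phases of the proof of the Klinger–Mason theorem.
-/

set_option autoImplicit false

namespace Cfsg.Agent.Class49.KM

open Subgroup
open scoped commutatorElement

variable {G : Type*} [Group G] [Finite G] {p m : ℕ} [hpf : Fact p.Prime]

omit [Finite G] in
theorem commute_zpowers {a b : G} (h : Commute a b) {t : G} (ht : t ∈ zpowers a) : Commute t b := by
  obtain ⟨i, rfl⟩ := mem_zpowers_iff.mp ht
  exact h.zpow_left i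

theorem elem_four {a b : G} (ha : a * a = 1) (ha1 : a ≠ 1) (hb : b * b = 1) (hab : Commute a b)
    (hba : b ∉ zpowers a) :
    Cfsg.IsElementaryAbelian 2 (zpowers a ⊔ zpowers b) ∧
      Nat.card ↥(zpowers a ⊔ zpowers b) = 4 := by
  haveI : Fact (Nat.Prime 2) := ⟨Nat.prime_two⟩
  obtain ⟨h1, h1c⟩ := elem_zpowers (r := 2) (by rw [pow_two, ha]) ha1
  obtain ⟨h2, h2c⟩ := elem_sup h1 (x := b) (by rw [pow_two, hb])
    (fun t ht => commute_zpowers hab ht) hba
  exact ⟨h2, by rw [h2c, h1c]⟩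

theorem elem_eight {a b c : G} (ha : a * a = 1) (ha1 : a ≠ 1) (hb : b * b = 1) (hcc : c * c = 1)
    (hab : Commute a b) (hac : Commute a c) (hbc : Commute b c) (hba : b ∉ zpowers a)
    (hca : c ∉ zpowers a) (hcba : c * b ∉ zpowers a) :
    Cfsg.IsElementaryAbelian 2 (zpowers a ⊔ zpowers b ⊔ zpowers c) ∧
      Nat.card ↥(zpowers a ⊔ zpowers b ⊔ zpowers c) = 8 := by
  haveI : Fact (Nat.Prime 2) := ⟨Nat.prime_two⟩
  obtain ⟨h2, h2c⟩ := elem_four ha ha1 hb hab hba
  have hbn : b ∈ normalizer ((zpowers a : Subgroup G) : Set G) :=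
    centralizer_le_normalizer _
      (mem_centralizer_of_commute fun t ht => commute_zpowers hab ht)
  obtain ⟨h3, h3c⟩ := elem_sup h2 (x := c) (by rw [pow_two, hcc]) (fun t ht => by
      obtain ⟨u, hu, v, hv, rfl⟩ := mem_sup_zpowers hbn ht
      exact (commute_zpowers hac hu).mul_left (commute_zpowers hbc hv))
    (fun h => by rcases mem_sup_two hb hbn h with h | h <;> contradiction)
  exact ⟨h3, by rw [h3c, h2c]⟩

/-- The central involutions of a two-group, as a subgroup. -/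
def omegaCenter (R : Subgroup G) : Subgroup G where
  carrier := {w | w ∈ R ∧ w ∈ centralizer (R : Set G) ∧ w * w = 1}
  one_mem' := ⟨one_mem R, one_mem _, mul_one 1⟩
  mul_mem' := fun {a b} ha hb => ⟨mul_mem ha.1 hb.1, mul_mem ha.2.1 hb.2.1, by
    have h : Commute a b := commute_of_mem_centralizer hb.2.1 ha.1
    calc a * b * (a * b) = (a * b) ^ 2 := (pow_two _).symm
      _ = a ^ 2 * b ^ 2 := h.mul_pow 2
      _ = 1 := by rw [pow_two, pow_two, ha.2.2, hb.2.2, mul_one]⟩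
  inv_mem' := fun {a} ha => ⟨inv_mem ha.1, inv_mem ha.2.1, by
    rw [← mul_inv_rev, ha.2.2, inv_one]⟩

theorem mem_omegaCenter {R : Subgroup G} {w : G} :
    w ∈ omegaCenter R ↔ w ∈ R ∧ w ∈ centralizer (R : Set G) ∧ w * w = 1 :=
  Iff.rfl

theorem le_normalizer_omegaCenter {A R : Subgroup G} (h : A ≤ normalizer (R : Set G)) :
    A ≤ normalizer (omegaCenter R : Set G) :=
  Coprime.le_normalizer_of_conj_mem fun a ha w hw =>
    ⟨Coprime.conj_mem_of_mem_normalizer (h ha) hw.1,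
      Coprime.conj_mem_of_mem_normalizer (LocalEven64.le_normalizer_centralizer h ha) hw.2.1, by
        calc a * w * a⁻¹ * (a * w * a⁻¹) = a * (w * w) * a⁻¹ := by group
          _ = 1 := by rw [hw.2.2, mul_one, mul_inv_cancel]⟩

/-- Phase one with an involution fixed: a four-group centralised by a hyperplane-sized group. -/
theorem exists_four_of_ctx (hy : Hyp p m G) {A : Subgroup G} {z : G} (hc : Ctx p m A z) :
    ∃ B R : Subgroup G, Cfsg.IsElementaryAbelian p B ∧ p ^ m ≤ Nat.card B * p ∧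
      Cfsg.IsElementaryAbelian 2 R ∧ Nat.card R = 4 ∧ R ≤ centralizer (B : Set G) := by
  haveI : Fact (Nat.Prime 2) := ⟨Nat.prime_two⟩
  haveI := hc.elem.1
  set Q := twoCore z with hQdef
  have hQp : IsPGroup 2 Q := LocalEven64.isPGroup_pCoreOf _
  have hsolA : Group.IsSolvable A := Group.isSolvable_of_comm fun a b => mul_comm' a b
  have hAne := hc.ne_bot hy
  have hAN : ∀ {C : Subgroup G}, C ≤ A → A ≤ normalizer ((centralizer (C : Set G)) : Set G) :=
    fun hCA => LocalEven64.le_normalizer_centralizer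
      ((le_centralizer_elem hc.elem hCA).trans (centralizer_le_normalizer _))
  -- the first hyperplane
  obtain ⟨B₀, hB₀A, hB₀c, hB₀⟩ : ∃ C : Subgroup G, C ≤ A ∧ Nat.card C * p = Nat.card A ∧
      ¬ Q ⊓ centralizer (C : Set G) ≤ centralizer (A : Set G) := by
    by_contra hno
    push Not at hno
    have hle := le_of_hyperplanes hc.elem hAne hc.normalizes (hc.coprime hy le_rfl) hno
    exact hAne ((eq_bot_iff_forall _).mpr fun a ha => hc.faithful hy ha
      (le_centralizer_iff.mp hle ha))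
  have hB₀m : p ^ m ≤ Nat.card B₀ * p := by rw [hB₀c]; exact hc.card
  obtain ⟨K₁, hK₁L, hAK₁, hK₁, hK₁A, hmin₁⟩ := exists_minimal le_rfl le_normalizer
    (LocalEven64.le_normalizer_inf hc.normalizes (hAN hB₀A))
    (hc.coprime hy inf_le_left) hsolA hB₀
  have hK₁Q : K₁ ≤ Q := hK₁L.trans inf_le_left
  -- the second hyperplane
  have hB₀ne : B₀ ≠ ⊥ := ne_bot_of_card hy (i := 1) (by omega) (by rwa [pow_one])
  have hnot : ¬ Q ⊓ centralizer (K₁ : Set G) ≤ centralizer (B₀ : Set G) := by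
    intro hle
    refine hB₀ne ((eq_bot_iff_forall _).mpr fun b hb => hc.faithful hy (hB₀A hb) ?_)
    refine LocalEven64.pq_lemma hQp (hQp.to_le hK₁Q) (hK₁Q.trans le_normalizer) ?_
      (hc.normalizes (hB₀A hb)) (le_centralizer_iff.mp (hK₁L.trans inf_le_right) hb) ?_
    · exact Nat.Coprime.coprime_dvd_left (orderOf_dvd_of_pow_eq_one (hc.elem.2 b (hB₀A hb)))
        ((Nat.coprime_primes hpf.out Nat.prime_two).mpr hy.ne_two)
    · exact fun x hx hxK => commute_of_mem_centralizer (hle ⟨hx, hxK⟩) hb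
  have hQ' : A ≤ normalizer ((Q ⊓ centralizer (K₁ : Set G) : Subgroup G) : Set G) :=
    LocalEven64.le_normalizer_inf hc.normalizes (LocalEven64.le_normalizer_centralizer hAK₁)
  obtain ⟨B₂, hB₂A, hB₂c, hB₂⟩ : ∃ C : Subgroup G, C ≤ A ∧ Nat.card C * p = Nat.card A ∧
      ¬ Q ⊓ centralizer (K₁ : Set G) ⊓ centralizer (C : Set G) ≤ centralizer (B₀ : Set G) := by
    by_contra hno
    push Not at hno
    exact hnot (le_of_hyperplanes hc.elem hAne hQ' (hc.coprime hy inf_le_left) hno)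
  have hB₂m : p ^ m ≤ Nat.card B₂ * p := by rw [hB₂c]; exact hc.card
  have hne₂ : B₂ ≠ B₀ := by
    rintro rfl
    exact hB₂ inf_le_right
  have hB₂' : ¬ Q ⊓ centralizer (K₁ : Set G) ⊓ centralizer (B₂ : Set G) ≤
      centralizer (A : Set G) :=
    fun h => hB₂ (h.trans (centralizer_le (show (B₀ : Set G) ⊆ A from hB₀A)))
  obtain ⟨K₂, hK₂L, hAK₂, hK₂, hK₂A, hmin₂⟩ := exists_minimal le_rfl le_normalizer
    (LocalEven64.le_normalizer_inf hQ' (hAN hB₂A))
    (hc.coprime hy (inf_le_left.trans inf_le_left)) hsolA hB₂'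
  have hK₂Q : K₂ ≤ Q := hK₂L.trans (inf_le_left.trans inf_le_left)
  obtain ⟨hsup, hinf⟩ := hyperplanes_sup_inf hc.elem hB₀A hB₂A hB₀c hB₂c hne₂.symm
  have hfixA : ∀ {y : G}, y ∈ centralizer (B₀ : Set G) → y ∈ centralizer (B₂ : Set G) →
      y ∈ centralizer (A : Set G) := fun h0 h2 => hsup ▸ mem_centralizer_sup h0 h2
  have hzC : ∀ {C : Subgroup G}, C ≤ A → zpowers z ≤ centralizer (C : Set G) := fun hCA =>
    hc.zpowers_mem_centralizer.trans (centralizer_le hCA)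
  have hK₁C : K₁ ≤ centralizer (B₀ : Set G) := hK₁L.trans inf_le_right
  have hK₂C : K₂ ≤ centralizer (B₂ : Set G) := hK₂L.trans inf_le_right
  have h12 : ∀ {u v : G}, u ∈ K₁ → v ∈ K₂ → Commute u v := fun hu hv =>
    commute_of_mem_centralizer (hK₂L hv).1.2 hu
  have hfour : ∀ {B : Subgroup G}, B ≤ A → p ^ m ≤ Nat.card B * p → ∀ {u : G},
      u ∈ Q → u ∈ centralizer (B : Set G) → u ∉ centralizer (A : Set G) → u * u = 1 →
      ∃ B R : Subgroup G, Cfsg.IsElementaryAbelian p B ∧ p ^ m ≤ Nat.card B * p ∧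
        Cfsg.IsElementaryAbelian 2 R ∧ Nat.card R = 4 ∧ R ≤ centralizer (B : Set G) := by
    intro B hBA hBm u huQ huB huA hu2
    obtain ⟨hR, hRc⟩ := elem_four hc.mul_self hc.ne_one hu2 (hc.commute_core huQ)
      (fun h => huA (hc.zpowers_mem_centralizer h))
    exact ⟨B, _, elem_of_le hc.elem hBA, hBm, hR, hRc, sup_le (hzC hBA) (zpowers_le.mpr huB)⟩
  by_cases hsmall : (∃ u ∈ K₁, u ∉ centralizer (A : Set G) ∧ u * u = 1) ∨
      (∃ v ∈ K₂, v ∉ centralizer (A : Set G) ∧ v * v = 1)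
  · rcases hsmall with ⟨u, hu, huA, hu2⟩ | ⟨u, hu, huA, hu2⟩
    · exact hfour hB₀A hB₀m (hK₁Q hu) (hK₁C hu) huA hu2
    · exact hfour hB₂A hB₂m (hK₂Q hu) (hK₂C hu) huA hu2
  obtain ⟨hsmall₁, hsmall₂⟩ := not_or.mp hsmall
  push Not at hsmall₁ hsmall₂
  -- a noncommuting pair in each of the two subgroups
  have hpair : ∀ K : Subgroup G, K ≤ Q → A ≤ normalizer (K : Set G) → K ≤ ⁅K, A⁆ →
      ¬ K ≤ centralizer (A : Set G) →
      (∀ D, D ≤ K → D ≠ K → A ≤ normalizer (D : Set G) → D ≤ centralizer (A : Set G)) →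
      (∀ u ∈ K, u ∉ centralizer (A : Set G) → u * u ≠ 1) →
      ∃ u ∈ K, ∃ u' ∈ K, u ∉ centralizer (A : Set G) ∧ u' ∉ centralizer (A : Set G) ∧
        u * u = z ∧ u' * u' = z ∧ u * u' = z * (u' * u) ∧
        u⁻¹ * u' ∉ centralizer (A : Set G) := by
    intro K hKQ hAK hKA hK hmin hsm
    have hKne : K ≠ ⊥ := fun h => hK (h ▸ bot_le)
    obtain ⟨hD, hDne, hDn, -, -⟩ := frattini_map_facts (hQp.to_le hKQ) hKne
    obtain ⟨hcomm, hsq⟩ := hc.facts hy hKQ hAK hKA (hmin _ hD hDne (hAK.trans hDn)) hKne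
    have hsz : ∀ u ∈ K, u ∉ centralizer (A : Set G) → u * u = z := fun u hu huA =>
      (mem_zpowers_two hc.mul_self (hsq u hu)).resolve_left (hsm u hu huA)
    obtain ⟨u, hu, huA⟩ := SetLike.not_le_iff_exists.mp hK
    obtain ⟨a, ha, hu'A, hd⟩ := hc.exists_moved hy (hKQ hu) huA
    have hu' : a * u * a⁻¹ ∈ K := Coprime.conj_mem_of_mem_normalizer (hAK ha) hu
    refine ⟨u, hu, _, hu', huA, hu'A, hsz u hu huA, hsz _ hu' hu'A, ?_, hd⟩
    set u' := a * u * a⁻¹
    rcases mem_zpowers_two hc.mul_self (hcomm u hu u' hu') with h | h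
    · exfalso
      have hcm : Commute u u' := commutatorElement_eq_one_iff_mul_comm.mp h
      refine hsm _ (mul_mem (inv_mem hu) hu') hd ?_
      rw [← pow_two, hcm.inv_left.mul_pow, inv_pow, pow_two, pow_two, hsz u hu huA,
        hsz u' hu' hu'A, inv_mul_cancel]
    · rw [← h, commutatorElement_def]
      group
  obtain ⟨u, hu, u', hu', huA, hu'A, hu2, hu'2, huu', hd⟩ :=
    hpair K₁ hK₁Q hAK₁ hK₁A hK₁ hmin₁ hsmall₁
  obtain ⟨v, hv, v', hv', hvA, hv'A, hv2, hv'2, hvv', -⟩ :=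
    hpair K₂ hK₂Q hAK₂ hK₂A hK₂ hmin₂ hsmall₂
  have he : u * v * (u * v) = 1 := by
    rw [← pow_two, (h12 hu hv).mul_pow, pow_two, pow_two, hu2, hv2, hc.mul_self]
  have he' : u' * v' * (u' * v') = 1 := by
    rw [← pow_two, (h12 hu' hv').mul_pow, pow_two, pow_two, hu'2, hv'2, hc.mul_self]
  have hzQ : ∀ {q : G}, q ∈ Q → Commute z q := fun hq => hc.commute_core hq
  have hswap : u' * v' * (u * v) = u' * u * (v' * v) := by
    calc u' * v' * (u * v) = u' * (v' * u) * v := by group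
      _ = u' * (u * v') * v := by rw [(h12 hu hv').eq]
      _ = u' * u * (v' * v) := by group
  have hee' : Commute (u * v) (u' * v') := by
    show u * v * (u' * v') = u' * v' * (u * v)
    rw [hswap]
    calc u * v * (u' * v') = u * (v * u') * v' := by group
      _ = u * (u' * v) * v' := by rw [(h12 hu' hv).eq]
      _ = u * u' * (v * v') := by group
      _ = z * (u' * u) * (z * (v' * v)) := by rw [huu', hvv']
      _ = z * (u' * u * z) * (v' * v) := by group
      _ = z * (z * (u' * u)) * (v' * v) := by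
        rw [(hzQ (mul_mem (hK₁Q hu') (hK₁Q hu))).eq]
      _ = u' * u * (v' * v) := by rw [← mul_assoc z z, hc.mul_self, one_mul]
  have hprod : ∀ {a b : G}, a ∈ centralizer (B₀ : Set G) → b ∈ centralizer (B₂ : Set G) →
      a * b ∈ zpowers z → a ∈ centralizer (A : Set G) := by
    intro a b ha hb hab
    refine hfixA ha ?_
    have := mul_mem (hzC hB₂A hab) (inv_mem hb)
    rwa [mul_inv_cancel_right] at this
  obtain ⟨hR, hRc⟩ := elem_eight hc.mul_self hc.ne_one he he'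
    (hzQ (mul_mem (hK₁Q hu) (hK₂Q hv))) (hzQ (mul_mem (hK₁Q hu') (hK₂Q hv'))) hee'
    (fun h => huA (hprod (hK₁C hu) (hK₂C hv) h))
    (fun h => hu'A (hprod (hK₁C hu') (hK₂C hv') h))
    (fun h => hd (by
      rw [hswap] at h
      have h1 := hprod (mul_mem (hK₁C hu') (hK₁C hu)) (mul_mem (hK₂C hv') (hK₂C hv)) h
      have h2 : u * u' ∈ centralizer (A : Set G) := by
        rw [huu']; exact mul_mem (hc.zpowers_mem_centralizer (mem_zpowers z)) h1
      have h3 := mul_mem (inv_mem (hc.zpowers_mem_centralizer (mem_zpowers z))) h2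
      rwa [← hu2, show (u * u)⁻¹ * (u * u') = u⁻¹ * u' by group] at h3))
  set R := zpowers z ⊔ zpowers (u * v) ⊔ zpowers (u' * v') with hRdef
  have hB01 : B₀ ⊓ B₂ ≤ A := inf_le_left.trans hB₀A
  have hC0 : centralizer (B₀ : Set G) ≤ centralizer ((B₀ ⊓ B₂ : Subgroup G) : Set G) :=
    centralizer_le (show ((B₀ ⊓ B₂ : Subgroup G) : Set G) ⊆ B₀ from fun _ h => h.1)
  have hC2 : centralizer (B₂ : Set G) ≤ centralizer ((B₀ ⊓ B₂ : Subgroup G) : Set G) :=
    centralizer_le (show ((B₀ ⊓ B₂ : Subgroup G) : Set G) ⊆ B₂ from fun _ h => h.2)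
  have hRB : R ≤ centralizer ((B₀ ⊓ B₂ : Subgroup G) : Set G) :=
    sup_le (sup_le (hzC hB01)
      (zpowers_le.mpr (mul_mem (hC0 (hK₁C hu)) (hC2 (hK₂C hv)))))
      (zpowers_le.mpr (mul_mem (hC0 (hK₁C hu')) (hC2 (hK₂C hv'))))
  have hm2 : p ^ m ≤ Nat.card ↥(B₀ ⊓ B₂) * p ^ 2 := by
    rw [pow_two, ← mul_assoc, hinf]
    exact hc.card
  obtain ⟨H₀, x, r, hH₀R, hH₀c, -, -, hxp, -, -, hxB, hBx, hH₀x⟩ :=
    kernel hy (elem_of_le hc.elem hB01) (ne_bot_of_card hy le_rfl hm2) hR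
      (fun h => by rw [h, card_bot] at hRc; omega) hRB
  obtain ⟨hB', hB'c⟩ := elem_sup (elem_of_le hc.elem hB01) hxp hBx hxB
  refine ⟨(B₀ ⊓ B₂) ⊔ zpowers x, H₀, hB', ?_, elem_of_le hR hH₀R, ?_, fun h hh =>
    mem_centralizer_sup ((hH₀R.trans hRB) hh) (by rw [centralizer_zpowers]; exact hH₀x hh)⟩
  · rw [hB'c, mul_assoc, ← pow_two]
    exact hm2
  · omega

/-- Phase one. -/
theorem exists_four (hy : Hyp p m G) {A R₀ : Subgroup G} (hA : Cfsg.IsElementaryAbelian p A)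
    (hAm : p ^ m ≤ Nat.card A) (hR₀ : IsPGroup 2 R₀) (hR₀1 : R₀ ≠ ⊥)
    (hAR : A ≤ normalizer (R₀ : Set G)) :
    ∃ B R : Subgroup G, Cfsg.IsElementaryAbelian p B ∧ p ^ m ≤ Nat.card B * p ∧
      Cfsg.IsElementaryAbelian 2 R ∧ Nat.card R = 4 ∧ R ≤ centralizer (B : Set G) := by
  haveI : Fact (Nat.Prime 2) := ⟨Nat.prime_two⟩
  set W := omegaCenter R₀ with hW
  by_cases hfix : ∃ w ∈ W, w ≠ 1 ∧ w ∈ centralizer (A : Set G)
  · obtain ⟨w, hw, hw1, hwA⟩ := hfix
    refine exists_four_of_ctx hy (z := w) ⟨hA, hAm, orderOf_eq_prime ?_ hw1, fun a ha => ?_⟩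
    · rw [pow_two]; exact hw.2.2
    · exact mem_centralizer_singleton_iff.mpr (commute_of_mem_centralizer hwA ha).eq
  push Not at hfix
  have hWne : ∃ w ∈ W, w ≠ 1 := by
    haveI : Nontrivial ↥R₀ := R₀.nontrivial_iff_ne_bot.mpr hR₀1
    haveI := hR₀.center_nontrivial
    obtain ⟨c, hc, hc1, hc2⟩ := PGroup.exists_mem_pow_eq_one hR₀
      ((center ↥R₀).nontrivial_iff_ne_bot.mp inferInstance)
    refine ⟨c, ⟨c.2, mem_centralizer_of_commute fun a ha => ?_, ?_⟩,
      fun h => hc1 (Subtype.ext h)⟩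
    · exact congrArg Subtype.val (mem_center_iff.mp hc ⟨a, ha⟩)
    · rw [← pow_two]; exact congrArg Subtype.val hc2
  have hWp : IsPGroup 2 W := fun w => ⟨1, Subtype.ext (by simpa [pow_two] using w.2.2.2)⟩
  obtain ⟨C, hCA, hCc, hC⟩ : ∃ C : Subgroup G, C ≤ A ∧ Nat.card C * p = Nat.card A ∧
      ¬ W ⊓ centralizer (C : Set G) ≤ centralizer (A : Set G) := by
    by_contra hno
    push Not at hno
    have hle := le_of_hyperplanes hA (ne_bot_of_card hy (i := 0) (by omega) (by simpa using hAm))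
      (le_normalizer_omegaCenter hAR) (card_coprime hy.ne_two (isPGroup_of_elem hA) hWp) hno
    obtain ⟨w, hw, hw1⟩ := hWne
    exact hfix w hw hw1 (hle hw)
  obtain ⟨t, ⟨htW, htC⟩, htA⟩ := SetLike.not_le_iff_exists.mp hC
  obtain ⟨a, ha, hat⟩ : ∃ a ∈ A, ¬ Commute a t := by
    by_contra hno
    push Not at hno
    exact htA (mem_centralizer_of_commute hno)
  have ht' : a * t * a⁻¹ ∈ W :=
    Coprime.conj_mem_of_mem_normalizer (le_normalizer_omegaCenter hAR ha) htW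
  have haC : a ∈ centralizer (C : Set G) := le_centralizer_elem hA hCA ha
  obtain ⟨hR, hRc⟩ := elem_four htW.2.2 (fun h => htA (h ▸ one_mem _)) ht'.2.2
    (commute_of_mem_centralizer ht'.2.1 htW.1) (fun h => by
      rcases mem_zpowers_two htW.2.2 h with h1 | h1
      · exact htA (by rw [conj_eq_one_iff.mp h1]; exact one_mem _)
      · exact hat (mul_inv_eq_iff_eq_mul.mp h1))
  refine ⟨C, _, elem_of_le hA hCA, by rw [hCc]; exact hAm, hR, hRc,
    sup_le (zpowers_le.mpr htC) (zpowers_le.mpr ?_)⟩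
  exact mul_mem (mul_mem haC htC) (inv_mem haC)

end Cfsg.Agent.Class49.KM
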