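import Mathlib
import Cfsg.Agent.Class49.KlingerMasonMain

/-!
Second phase of the proof of the Klinger–Mason theorem.
-/

set_option autoImplicit false

namespace Cfsg.Agent.Class49.KM

open Subgroup
open scoped commutatorElement

variable {G : Type*} [Group G] [Finite G] {p m : ℕ} [hpf : Fact p.Prime]

/-- Phase two: no four-group is centralised by a hyperplane-sized elementary `p`-group. -/
theorem not_exists_four (hy : Hyp p m G) {B R : Subgroup G} (hB : Cfsg.IsElementaryAbelian p B)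
    (hBc : p ^ m ≤ Nat.card B * p) (hR : Cfsg.IsElementaryAbelian 2 R) (hRc : Nat.card R = 4)
    (hRB : R ≤ centralizer (B : Set G)) : False := by
  haveI : Fact (Nat.Prime 2) := ⟨Nat.prime_two⟩
  have hBne : B ≠ ⊥ := ne_bot_of_card hy (i := 1) (by omega) (by rwa [pow_one])
  obtain ⟨H₀, x, w, hH₀R, hH₀c, hwR, hxP, hxp, hx1, hwx, hxB, hBx, hH₀x⟩ :=
    kernel hy hB hBne hR (fun h => by rw [h, card_bot] at hRc; omega) hRB
  obtain ⟨z, hzH, hz1⟩ : ∃ z ∈ H₀, z ≠ 1 := by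
    by_contra hno
    push Not at hno
    rw [(eq_bot_iff_forall H₀).mpr hno, card_bot] at hH₀c
    omega
  have hw2 : w * w = 1 := by rw [← pow_two]; exact hR.2 w hwR
  have hwz : Commute w z := commute_of_elem hR hwR (hH₀R hzH)
  obtain ⟨A, hAdef⟩ : ∃ A, A = B ⊔ zpowers x := ⟨_, rfl⟩
  obtain ⟨hA, hAcard⟩ := elem_sup hB hxp hBx hxB
  rw [← hAdef] at hA hAcard
  have hBA : B ≤ A := hAdef ▸ le_sup_left
  have hxA : x ∈ A := hAdef ▸ mem_sup_right (mem_zpowers x)
  have hc : Ctx p m A z := by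
    refine ⟨hA, by rw [hAcard]; exact hBc, orderOf_eq_prime (hR.2 z (hH₀R hzH)) hz1, ?_⟩
    rw [hAdef]
    refine sup_le (fun b hb => mem_centralizer_singleton_iff.mpr
      (commute_of_mem_centralizer (hRB (hH₀R hzH)) hb).eq) (zpowers_le.mpr ?_)
    exact mem_centralizer_singleton_iff.mpr (mem_centralizer_singleton_iff.mp (hH₀x hzH)).symm
  haveI := hc.elem.1
  have hAne := hc.ne_bot hy
  set Q := twoCore z with hQdef
  have hQp : IsPGroup 2 Q := LocalEven64.isPGroup_pCoreOf _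
  have hwQn : w ∈ normalizer (Q : Set G) :=
    LocalEven64.le_normalizer_pCoreOf _ (mem_centralizer_singleton_iff.mpr hwz.eq)
  have hwX : w ∈ normalizer ((zpowers x : Subgroup G) : Set G) := by
    rw [mem_normalizer_iff_map_conj_eq, MonoidHom.map_zpowers]
    show zpowers (w * x * w⁻¹) = zpowers x
    rw [hwx, zpowers_inv]
  have hwA : w ∈ normalizer (A : Set G) := by
    rw [mem_normalizer_iff_map_conj_eq, hAdef, Subgroup.map_sup,
      mem_normalizer_iff_map_conj_eq.mp (centralizer_le_normalizer _ (hRB hwR)),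
      mem_normalizer_iff_map_conj_eq.mp hwX]
  have hx2 : ∀ y ∈ zpowers x, y * y = 1 → y = 1 := by
    intro y hy' hy2
    have h1 : orderOf y ∣ p := by
      obtain ⟨i, rfl⟩ := mem_zpowers_iff.mp hy'
      exact orderOf_dvd_of_pow_eq_one (hA.2 _ (zpow_mem hxA i))
    have h2 : orderOf y ∣ 2 := orderOf_dvd_of_pow_eq_one (by rw [pow_two, hy2])
    rw [← orderOf_eq_one_iff]
    exact Nat.eq_one_of_dvd_coprimes ((Nat.coprime_primes hpf.out Nat.prime_two).mpr hy.ne_two) h1 h2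
  have hwQ : w ∉ Q := by
    intro hwQ
    have hwx' : w * x⁻¹ * w⁻¹ = x := by
      have h := congrArg (·⁻¹) hwx
      simpa [mul_assoc] using h
    have h : x * x ∈ Q := by
      have h1 := mul_mem (Coprime.conj_mem_of_mem_normalizer (hc.normalizes hxA) hwQ) (inv_mem hwQ)
      have e : x * w * x⁻¹ * w⁻¹ = x * (w * x⁻¹ * w⁻¹) := by group
      rwa [e, hwx'] at h1
    have hcop : (orderOf (x * x)).Coprime 2 :=
      Nat.Coprime.coprime_dvd_left (orderOf_dvd_of_pow_eq_one (hA.2 _ (mul_mem hxA hxA)))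
        ((Nat.coprime_primes hpf.out Nat.prime_two).mpr hy.ne_two)
    exact hx1 (hx2 x (mem_zpowers x) (LocalEven64.eq_one_of_mem_pGroup hQp h hcop))
  -- `C_Q(B)` is centralised by `A`
  have hP : Q ⊓ centralizer (B : Set G) ≤ centralizer (A : Set G) := by
    rintro q ⟨hqQ, hqB⟩
    have h1 : ⁅q, x⁆ ∈ Cfsg.pCoreOf p (centralizer (B : Set G)) := by
      rw [commutatorElement_def]
      exact mul_mem (Coprime.conj_mem_of_mem_normalizer
        (LocalEven64.le_normalizer_pCoreOf _ hqB) hxP) (inv_mem hxP)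
    have h2 : ⁅q, x⁆ ∈ Q := by
      rw [show ⁅q, x⁆ = q * (x * q⁻¹ * x⁻¹) by rw [commutatorElement_def]; group]
      exact mul_mem hqQ (Coprime.conj_mem_of_mem_normalizer (hc.normalizes hxA) (inv_mem hqQ))
    obtain ⟨k, hk⟩ := IsPGroup.iff_orderOf.mp hQp ⟨_, h2⟩
    rw [Subgroup.orderOf_mk] at hk
    have h3 : ⁅q, x⁆ = 1 := LocalEven64.eq_one_of_mem_pGroup (LocalEven64.isPGroup_pCoreOf _) h1
      (hk ▸ Nat.Coprime.pow_left k
        ((Nat.coprime_primes Nat.prime_two hpf.out).mpr hy.ne_two.symm))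
    rw [hAdef]
    refine mem_centralizer_sup hqB ?_
    rw [centralizer_zpowers]
    exact mem_centralizer_singleton_iff.mpr (commutatorElement_eq_one_iff_mul_comm.mp h3)
  -- a minimal `(A, w)`-invariant subgroup of `Q` moved by `x`
  have hXA : zpowers x ≤ A := zpowers_le.mpr hxA
  have hAX : A ≤ normalizer ((zpowers x : Subgroup G) : Set G) :=
    (le_centralizer_elem hA hXA).trans (centralizer_le_normalizer _)
  have hsolX : Group.IsSolvable (zpowers x) := by
    haveI := (elem_zpowers hxp hx1).1.1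
    exact Group.isSolvable_of_comm fun a b => mul_comm' a b
  have hQx : ¬ Q ≤ centralizer ((zpowers x : Subgroup G) : Set G) := fun h =>
    hx1 (hc.faithful hy hxA (le_centralizer_iff.mp h (mem_zpowers x)))
  obtain ⟨K, hKQ, hMK, hK, hKX, hmin⟩ := exists_minimal (M := A ⊔ zpowers w) (X := zpowers x)
    (L := Q) (hXA.trans le_sup_left) (sup_le hAX (zpowers_le.mpr hwX))
    (sup_le hc.normalizes (zpowers_le.mpr hwQn))
    ((hc.coprime hy le_rfl).coprime_dvd_left (card_dvd_of_le hXA)) hsolX hQx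
  have hAK : A ≤ normalizer (K : Set G) := le_sup_left.trans hMK
  have hwK : w ∈ normalizer (K : Set G) := hMK (mem_sup_right (mem_zpowers w))
  have hKA : K ≤ ⁅K, A⁆ := hKX.trans (commutator_mono le_rfl hXA)
  have hKne : K ≠ ⊥ := fun h => hK (h ▸ bot_le)
  obtain ⟨hD, hDne, hDn, -, -⟩ := frattini_map_facts (hQp.to_le hKQ) hKne
  have hDX := hmin _ hD hDne (hMK.trans hDn)
  have hDK : (frattini K).map K.subtype ≤ centralizer (K : Set G) :=
    le_centralizer_of_commutator hKX hDX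
      ((Coprime.commutator_le_of_le_normalizer (le_normalizer.trans hDn)).trans hDX)
  have hDA := hc.abelian_le_centralizer hy (hD.trans hKQ) (hAK.trans hDn)
    fun a ha b hb => commute_of_mem_centralizer (hDK hb) (hD ha)
  obtain ⟨hcomm, hsq⟩ := hc.facts hy hKQ hAK hKA hDA hKne
  obtain ⟨B₁, hB₁A, hB₁c, hB₁⟩ : ∃ C : Subgroup G, C ≤ A ∧ Nat.card C * p = Nat.card A ∧
      ¬ K ⊓ centralizer (C : Set G) ≤ centralizer ({x} : Set G) := by
    by_contra hno
    push Not at hno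
    exact hK (by rw [centralizer_zpowers]
                 exact le_of_hyperplanes hA hAne hAK (hc.coprime hy hKQ) hno)
  have hCxA : centralizer (A : Set G) ≤ centralizer ({x} : Set G) := by
    rw [← centralizer_zpowers]
    exact centralizer_le (show ((zpowers x : Subgroup G) : Set G) ⊆ A from hXA)
  have hxB₁ : x ∉ B₁ := fun h => hB₁ fun y hy' =>
    mem_centralizer_singleton_iff.mpr (mem_centralizer_iff.mp hy'.2 x h).symm
  have hB₁B : B₁ ≠ B := by
    rintro rfl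
    exact hB₁ (((inf_le_inf_right _ hKQ).trans hP).trans hCxA)
  obtain ⟨B₂, hB₂def⟩ : ∃ B₂, B₂ = B₁.map (MulAut.conj w).toMonoidHom := ⟨_, rfl⟩
  have hB₂A : B₂ ≤ A := by
    rw [hB₂def]
    exact le_trans (map_mono hB₁A) (mem_normalizer_iff_map_conj_eq.mp hwA).le
  have hB₂c : Nat.card B₂ * p = Nat.card A := by
    rw [hB₂def, card_map_of_injective (MulAut.conj w).injective, hB₁c]
  have hne₁₂ : B₁ ≠ B₂ := by
    intro h
    have hBcard : Nat.card B₁ = Nat.card B :=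
      Nat.eq_of_mul_eq_mul_right hpf.out.pos (hB₁c.trans hAcard)
    refine hB₁B (eq_of_le_of_card_ge (fun c hcB => ?_) hBcard.ge)
    obtain ⟨b, hb, t, ht, rfl⟩ := mem_sup_zpowers
      (centralizer_le_normalizer _ (mem_centralizer_of_commute hBx)) (hAdef ▸ hB₁A hcB)
    have hcB' : w * (b * t) * w⁻¹ ∈ B₁ := h.symm ▸ (hB₂def ▸ ⟨_, hcB, rfl⟩)
    have hbw : w * b * w⁻¹ = b := by
      rw [← (commute_of_mem_centralizer (hRB hwR) hb).eq, mul_inv_cancel_right]
    have htw : w * t * w⁻¹ = t⁻¹ := by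
      obtain ⟨i, rfl⟩ := mem_zpowers_iff.mp ht
      rw [← conj_zpow, hwx, inv_zpow]
    rw [show w * (b * t) * w⁻¹ = w * b * w⁻¹ * (w * t * w⁻¹) by group, hbw, htw] at hcB'
    have ht2 : t * t ∈ B₁ := by
      have hbt : Commute b t := commute_of_elem hA (hBA hb) (hXA ht)
      have h1 := mul_mem hcB (inv_mem hcB')
      rwa [show b * t * (b * t⁻¹)⁻¹ = b * (t * t) * b⁻¹ by group,
        (hbt.mul_right hbt).eq, mul_inv_cancel_right] at h1
    rw [hx2 t ht (eq_one_of_mem_zpowers_of_mem hxp hxB₁ (mul_mem ht ht) ht2), mul_one]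
    exact hb
  obtain ⟨hsup, -⟩ := hyperplanes_sup_inf hA hB₁A hB₂A hB₁c hB₂c hne₁₂
  have hfixA : ∀ {y : G}, y ∈ centralizer (B₁ : Set G) → y ∈ centralizer (B₂ : Set G) →
      y ∈ centralizer (A : Set G) := fun h1 h2 => hsup ▸ mem_centralizer_sup h1 h2
  -- the subgroup `U`
  have hAK₁ : A ≤ normalizer ((K ⊓ centralizer (B₁ : Set G) : Subgroup G) : Set G) :=
    LocalEven64.le_normalizer_inf hAK (LocalEven64.le_normalizer_centralizer
      ((le_centralizer_elem hA hB₁A).trans (centralizer_le_normalizer _)))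
  obtain ⟨U, hUdef⟩ : ∃ U, U = ⁅K ⊓ centralizer (B₁ : Set G), A⁆ := ⟨_, rfl⟩
  have hUK : U ≤ K ⊓ centralizer (B₁ : Set G) :=
    hUdef ▸ Coprime.commutator_le_of_le_normalizer hAK₁
  have hAU : A ≤ normalizer (U : Set G) :=
    hUdef ▸ fun a ha => mem_normalizer_commutator (hAK₁ ha) (le_normalizer ha)
  have hUA : ¬ U ≤ centralizer (A : Set G) := by
    intro h
    refine hB₁ (le_trans ?_ hCxA)
    rw [← commutator_eq_bot_iff_le_centralizer, ← Coprime.commutator_commutator_eq A _ hAK₁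
      (hc.coprime hy (inf_le_left.trans hKQ))
      (Or.inl (Group.isSolvable_of_comm fun a b => mul_comm' a b)), ← hUdef]
    exact commutator_eq_bot_iff_le_centralizer.mpr h
  have hUV : ∀ u ∈ U, ∀ v ∈ K, v ∈ centralizer (B₂ : Set G) → Commute u v := by
    intro u hu v hv hvC
    have hle : ⁅K ⊓ centralizer (B₁ : Set G), A⁆ ≤ centralizer ({v} : Set G) := by
      refine commutator_le.mpr fun k hk a ha => ?_
      have hn12 : B₂ ≤ normalizer (B₁ : Set G) :=
        (hB₂A.trans (le_centralizer_elem hA hB₁A)).trans (centralizer_le_normalizer _)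
      have ha' : a ∈ (↑(B₁ ⊔ B₂) : Set G) := hsup.symm ▸ ha
      rw [coe_mul_of_right_le_normalizer_left B₁ B₂ hn12] at ha'
      obtain ⟨b₁, hb₁, b₂, hb₂, rfl⟩ := ha'
      have hkb : Commute b₁ k⁻¹ := (commute_of_mem_centralizer hk.2 hb₁).inv_right
      have hbb : b₁ * b₂ = b₂ * b₁ := commute_of_elem hA (hB₁A hb₁) (hB₂A hb₂)
      have e : ⁅k, b₁ * b₂⁆ = (k⁻¹)⁻¹ * (b₂ * k⁻¹ * b₂⁻¹) := by
        rw [commutatorElement_def, inv_inv]
        calc k * (b₁ * b₂) * k⁻¹ * (b₁ * b₂)⁻¹ = k * (b₂ * b₁) * k⁻¹ * (b₂ * b₁)⁻¹ := by rw [hbb]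
          _ = k * b₂ * (b₁ * k⁻¹ * b₁⁻¹) * b₂⁻¹ := by group
          _ = k * b₂ * k⁻¹ * b₂⁻¹ := by rw [hkb.eq, mul_inv_cancel_right]
          _ = _ := by group
      rw [e]
      set u₁ := k⁻¹
      have hu₁ : u₁ ∈ K := inv_mem hk.1
      have hbv : Commute b₂ v := commute_of_mem_centralizer hvC hb₂
      have hbc : Commute b₂ ⁅u₁, v⁆ := commute_of_mem_centralizer
        (hc.zpowers_mem_centralizer (hcomm _ hu₁ v hv)) (hB₂A hb₂)
      have hcv : ⁅b₂ * u₁ * b₂⁻¹, v⁆ = ⁅u₁, v⁆ := by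
        conv_lhs => rw [← (show b₂ * v * b₂⁻¹ = v by rw [hbv.eq, mul_inv_cancel_right])]
        rw [← conjugate_commutatorElement, hbc.eq, mul_inv_cancel_right]
      rw [commutatorElement_def, commutatorElement_def] at hcv
      have h4 : b₂ * u₁ * b₂⁻¹ * v * (b₂ * u₁ * b₂⁻¹)⁻¹ = u₁ * v * u₁⁻¹ := mul_right_cancel hcv
      refine mem_centralizer_singleton_iff.mpr ?_
      calc u₁⁻¹ * (b₂ * u₁ * b₂⁻¹) * v
          = u₁⁻¹ * (b₂ * u₁ * b₂⁻¹ * v * (b₂ * u₁ * b₂⁻¹)⁻¹) * (b₂ * u₁ * b₂⁻¹) := by group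
        _ = u₁⁻¹ * (u₁ * v * u₁⁻¹) * (b₂ * u₁ * b₂⁻¹) := by rw [h4]
        _ = v * (u₁⁻¹ * (b₂ * u₁ * b₂⁻¹)) := by group
    exact mem_centralizer_singleton_iff.mp (hle (hUdef ▸ hu))
  have hwU : ∀ u ∈ U, w * u * w⁻¹ ∈ K ∧ w * u * w⁻¹ ∈ centralizer (B₂ : Set G) := by
    intro u hu
    refine ⟨Coprime.conj_mem_of_mem_normalizer hwK (hUK hu).1,
      mem_centralizer_of_commute fun b' hb' => ?_⟩
    rw [hB₂def] at hb'
    obtain ⟨b, hb, rfl⟩ := hb'
    exact (commute_of_mem_centralizer (hUK hu).2 hb).map (MulAut.conj w).toMonoidHom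
  obtain ⟨φ, hφ⟩ : ∃ φ : G → G, ∀ y, φ y = y * (w * y * w⁻¹) := ⟨_, fun _ => rfl⟩
  have hφmul : ∀ a ∈ U, ∀ b ∈ U, φ (a * b) = φ a * φ b := by
    intro a ha b hb
    have hcm : Commute b (w * a * w⁻¹) := hUV b hb _ (hwU a ha).1 (hwU a ha).2
    calc φ (a * b) = a * (b * (w * a * w⁻¹)) * (w * b * w⁻¹) := by rw [hφ]; group
      _ = a * (w * a * w⁻¹ * b) * (w * b * w⁻¹) := by rw [hcm.eq]
      _ = φ a * φ b := by rw [hφ, hφ]; group
  have hφz : ∀ t ∈ zpowers z, φ t = 1 := by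
    intro t ht
    rw [hφ]
    rcases mem_zpowers_two hc.mul_self ht with rfl | rfl
    · simp
    · rw [hwz.eq, mul_inv_cancel_right, hc.mul_self]
  have hφsq : ∀ u ∈ U, φ u * φ u = 1 := fun u hu => by
    rw [← hφmul u hu u hu, hφz _ (hsq u (hUK hu).1)]
  have hφcomm : ∀ a ∈ U, ∀ b ∈ U, Commute (φ a) (φ b) := by
    intro a ha b hb
    have hcU : ⁅a, b⁆ ∈ U := by
      rw [commutatorElement_def]
      exact mul_mem (mul_mem (mul_mem ha hb) (inv_mem ha)) (inv_mem hb)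
    show φ a * φ b = φ b * φ a
    rw [← hφmul a ha b hb, ← hφmul b hb a ha,
      show a * b = ⁅a, b⁆ * (b * a) by rw [commutatorElement_def]; group,
      hφmul _ hcU _ (mul_mem hb ha), hφz _ (hcomm a (hUK ha).1 b (hUK hb).1), one_mul]
  have hφQ : ∀ u ∈ U, φ u ∈ Q := fun u hu =>
    hφ u ▸ mul_mem (hKQ (hUK hu).1) (hKQ (hwU u hu).1)
  have hφfix : ∀ u ∈ U, φ u ∈ zpowers z → u ∈ centralizer (A : Set G) := by
    intro u hu h
    refine hfixA (hUK hu).2 ?_
    have := mul_mem (centralizer_le (show (B₂ : Set G) ⊆ A from hB₂A)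
      (hc.zpowers_mem_centralizer h)) (inv_mem (hwU u hu).2)
    rwa [hφ, mul_inv_cancel_right] at this
  obtain ⟨u, hu, huA⟩ := SetLike.not_le_iff_exists.mp hUA
  obtain ⟨a, ha, hu'A, hd⟩ := hc.exists_moved hy (hKQ (hUK hu).1) huA
  have hu' : a * u * a⁻¹ ∈ U := Coprime.conj_mem_of_mem_normalizer (hAU ha) hu
  set u' := a * u * a⁻¹
  obtain ⟨hR8, hR8c⟩ := elem_eight hc.mul_self hc.ne_one (hφsq u hu) (hφsq u' hu')
    (hc.commute_core (hφQ u hu)) (hc.commute_core (hφQ u' hu')) (hφcomm u hu u' hu')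
    (fun h => huA (hφfix u hu h)) (fun h => hu'A (hφfix u' hu' h))
    (fun h => hd (by
      rw [← hφmul u' hu' u hu] at h
      have h1 := hφfix _ (mul_mem hu' hu) h
      have h2 : u * u' ∈ centralizer (A : Set G) := by
        rw [show u * u' = ⁅u, u'⁆ * (u' * u) by rw [commutatorElement_def]; group]
        exact mul_mem (hc.zpowers_mem_centralizer (hcomm u (hUK hu).1 u' (hUK hu').1)) h1
      have h3 := mul_mem (inv_mem (hc.zpowers_mem_centralizer (hsq u (hUK hu).1))) h2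
      rwa [show (u * u)⁻¹ * (u * u') = u⁻¹ * u' by group] at h3))
  -- `w` commutes with the values of `φ`
  have hwφ : ∀ u ∈ U, Commute (φ u) w := by
    intro u hu
    have hcm := hUV u hu _ (hwU u hu).1 (hwU u hu).2
    have hwi : w⁻¹ = w := inv_eq_of_mul_eq_one_right hw2
    show φ u * w = w * φ u
    rw [hφ]
    calc u * (w * u * w⁻¹) * w = u * w * u := by group
      _ = w * (w * u * w⁻¹) * u := by rw [← mul_assoc w (w * u), ← mul_assoc w w, hw2, one_mul, hwi]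
      _ = w * (w * u * w⁻¹ * u) := by group
      _ = w * (u * (w * u * w⁻¹)) := by rw [hcm.eq]
  have hle8 : zpowers z ⊔ zpowers (φ u) ⊔ zpowers (φ u') ≤ Q :=
    sup_le (sup_le (zpowers_le.mpr hc.mem_core) (zpowers_le.mpr (hφQ u hu)))
      (zpowers_le.mpr (hφQ u' hu'))
  have hle8w : zpowers z ⊔ zpowers (φ u) ⊔ zpowers (φ u') ≤ centralizer ({w} : Set G) :=
    sup_le (sup_le (zpowers_le.mpr (mem_centralizer_singleton_iff.mpr hwz.symm.eq))
      (zpowers_le.mpr (mem_centralizer_singleton_iff.mpr (hwφ u hu).eq)))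
      (zpowers_le.mpr (mem_centralizer_singleton_iff.mpr (hwφ u' hu').eq))
  obtain ⟨hR16, hR16c⟩ := elem_sup hR8 (x := w) (by rw [pow_two, hw2])
    (fun h hh => mem_centralizer_singleton_iff.mp (hle8w hh)) (fun h => hwQ (hle8 h))
  -- everything is centralised by `B ⊓ B₁`
  have hBB : ∀ y ∈ centralizer (B₁ : Set G), y ∈ centralizer ((B ⊓ B₁ : Subgroup G) : Set G) :=
    fun y hy' => centralizer_le (show ((B ⊓ B₁ : Subgroup G) : Set G) ⊆ B₁ from fun _ h => h.2) hy'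
  have hwBB : w ∈ centralizer ((B ⊓ B₁ : Subgroup G) : Set G) :=
    centralizer_le (show ((B ⊓ B₁ : Subgroup G) : Set G) ⊆ B from fun _ h => h.1) (hRB hwR)
  have hφB : ∀ u ∈ U, φ u ∈ centralizer ((B ⊓ B₁ : Subgroup G) : Set G) := fun u hu =>
    hφ u ▸ mul_mem (hBB u (hUK hu).2) (mul_mem (mul_mem hwBB (hBB u (hUK hu).2)) (inv_mem hwBB))
  obtain ⟨-, hinf⟩ := hyperplanes_sup_inf hA hBA hB₁A hAcard.symm hB₁c hB₁B.symm
  have := bound hy 2 le_rfl (B ⊓ B₁) _ (elem_of_le hB inf_le_left)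
    (by rw [pow_two, ← mul_assoc, hinf]; exact hc.card) hR16
    (sup_le (sup_le (sup_le
      (hc.zpowers_mem_centralizer.trans (centralizer_le
        (show ((B ⊓ B₁ : Subgroup G) : Set G) ⊆ A from fun _ h => hBA h.1)))
      (zpowers_le.mpr (hφB u hu))) (zpowers_le.mpr (hφB u' hu')))
      (zpowers_le.mpr hwBB))
  rw [hR16c, hR8c] at this
  omega

end Cfsg.Agent.Class49.KM
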