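import Mathlib
import Cfsg.Agent.Lib.PGroup.Basic

/-!
TI subgroups of `p`-groups: commuting criteria.
-/

set_option autoImplicit false

namespace Cfsg.Agent.Class49

open Subgroup
open scoped commutatorElement

variable {G : Type*} [Group G]

/-- Conjugation by `g`, applied to a subgroup. -/
abbrev cj (g : G) (A : Subgroup G) : Subgroup G := A.map (MulAut.conj g).toMonoidHom

theorem mem_cj {g x : G} {A : Subgroup G} : x ∈ cj g A ↔ g⁻¹ * x * g ∈ A := by
  rw [cj, Subgroup.mem_map_equiv]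
  simp [MulAut.conj_symm_apply]

theorem conj_mem_cj {g x : G} {A : Subgroup G} (hx : x ∈ A) : g * x * g⁻¹ ∈ cj g A := by
  rw [mem_cj]
  simpa [mul_assoc] using hx

theorem card_cj (g : G) (A : Subgroup G) : Nat.card (cj g A) = Nat.card A :=
  Nat.card_congr (A.equivMapOfInjective _ (MulAut.conj g).injective).symm.toEquiv

theorem cj_cj (g h : G) (A : Subgroup G) : cj g (cj h A) = cj (g * h) A := by
  rw [cj, cj, cj, Subgroup.map_map]
  congr 1
  ext x
  simp

@[simp] theorem cj_one (A : Subgroup G) : cj 1 A = A := by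
  ext x; simp [mem_cj]

theorem mem_normalizer_of_cj_eq {g : G} {A : Subgroup G} (h : cj g A = A) :
    g ∈ Subgroup.normalizer (A : Set G) := by
  rw [Subgroup.mem_normalizer_iff]
  intro x
  constructor
  · intro hx
    rw [← h]
    exact conj_mem_cj hx
  · intro hx
    have hx' : g * x * g⁻¹ ∈ cj g A := h.symm ▸ hx
    rw [mem_cj] at hx'
    simpa [mul_assoc] using hx'

theorem cj_eq_of_mem_normalizer {g : G} {A : Subgroup G}
    (hg : g ∈ Subgroup.normalizer (A : Set G)) : cj g A = A := by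
  ext x
  rw [mem_cj, Subgroup.mem_normalizer_iff.mp hg (g⁻¹ * x * g)]
  simp [mul_assoc]

theorem commutator_eq_bot_of_commute {A B : Subgroup G} (h : ∀ a ∈ A, ∀ b ∈ B, a * b = b * a) :
    ⁅A, B⁆ = ⊥ := by
  rw [Subgroup.commutator_eq_bot_iff_le_centralizer]
  intro a ha
  rw [Subgroup.mem_centralizer_iff]
  exact fun b hb => (h a ha b hb).symm

theorem commute_of_commutator_eq_bot {A B : Subgroup G} (h : ⁅A, B⁆ = ⊥) {a b : G} (ha : a ∈ A)
    (hb : b ∈ B) : a * b = b * a := by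
  rw [Subgroup.commutator_eq_bot_iff_le_centralizer] at h
  exact (Subgroup.mem_centralizer_iff.mp (h ha) b hb).symm

theorem commute_of_normalizes {A B : Subgroup G} (hAB : A ⊓ B = ⊥) {a b : G} (ha : a ∈ A)
    (hb : b ∈ B) (haB : a ∈ Subgroup.normalizer (B : Set G))
    (hbA : b ∈ Subgroup.normalizer (A : Set G)) : a * b = b * a := by
  have h1 : a * b * a⁻¹ * b⁻¹ ∈ A ⊓ B := by
    refine ⟨?_, B.mul_mem ((Subgroup.mem_normalizer_iff.mp haB b).mp hb) (B.inv_mem hb)⟩
    have h2 := (Subgroup.mem_normalizer_iff.mp hbA a⁻¹).mp (A.inv_mem ha)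
    have h3 : a * (b * a⁻¹ * b⁻¹) ∈ A := A.mul_mem ha h2
    simpa [mul_assoc] using h3
  rw [hAB, Subgroup.mem_bot, ← commutatorElement_def, commutatorElement_eq_one_iff_mul_comm] at h1
  exact h1

/-- `A` is a TI subgroup. -/
def IsTI (A : Subgroup G) : Prop := ∀ g : G, cj g A = A ∨ cj g A ⊓ A = ⊥

theorem IsTI.cj_eq {A : Subgroup G} (hA : IsTI A) {g a : G} (ha : a ∈ A) (h1 : a ≠ 1)
    (hg : g * a * g⁻¹ ∈ A) : cj g A = A := by
  rcases hA g with h | h
  · exact h
  · exact absurd (conj_eq_one_iff.mp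
      (Subgroup.mem_bot.mp (h ▸ Subgroup.mem_inf.mpr ⟨conj_mem_cj ha, hg⟩))) h1

theorem IsTI.mem_normalizer {A : Subgroup G} (hA : IsTI A) {g a : G} (ha : a ∈ A) (h1 : a ≠ 1)
    (hg : g * a = a * g) : g ∈ Subgroup.normalizer (A : Set G) := by
  refine mem_normalizer_of_cj_eq (hA.cj_eq ha h1 ?_)
  rwa [hg, mul_inv_cancel_right]

theorem IsTI.map_cj {A : Subgroup G} (hA : IsTI A) (g : G) : IsTI (cj g A) := by
  intro h
  rw [cj_cj]
  have hmul : h * g = g * (g⁻¹ * h * g) := by group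
  rcases hA (g⁻¹ * h * g) with h1 | h1
  · left
    rw [hmul, ← cj_cj, h1]
  · right
    rw [hmul, ← cj_cj, cj, cj, ← Subgroup.map_inf _ _ _ (MulAut.conj g).injective, h1,
      Subgroup.map_bot]

/-- If `A`, `B` are TI `p`-subgroups, `B` normalizes `A`, `|A| ≤ |B|` and they meet trivially,
then they commute. -/
theorem ti_commute [Finite G] {p : ℕ} [Fact p.Prime] {A B : Subgroup G} (hA : IsPGroup p A)
    (hB : IsPGroup p B) (hBti : IsTI B) (hle : Nat.card A ≤ Nat.card B) (hAB : A ⊓ B = ⊥)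
    (hN : B ≤ Subgroup.normalizer (A : Set G)) : ⁅A, B⁆ = ⊥ := by
  by_cases hAN : A ≤ Subgroup.normalizer (B : Set G)
  · exact commutator_eq_bot_of_commute fun a ha b hb =>
      commute_of_normalizes hAB ha hb (hAN ha) (hN hb)
  exfalso
  have hP : IsPGroup p ↥(A ⊔ B : Subgroup G) := hA.to_sup_of_normal_left' hB hN
  set P : Subgroup G := A ⊔ B with hPdef
  set N : Subgroup G := Subgroup.normalizer (B : Set G) ⊓ P with hNdef
  have hNP : N < P := lt_of_le_of_ne inf_le_right fun h => hAN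
    ((le_sup_left.trans h.ge).trans inf_le_left)
  have hne : N.subgroupOf P ≠ ⊤ := fun h => hNP.not_ge (Subgroup.subgroupOf_eq_top.mp h)
  have hlt := Cfsg.Agent.PGroup.lt_normalizer hP hne
  obtain ⟨x, hxN, hx⟩ := SetLike.exists_of_lt hlt
  rw [Subgroup.mem_subgroupOf] at hx
  have hxn : ∀ y ∈ N, (x : G) * y * (x : G)⁻¹ ∈ N := by
    intro y hy
    exact Subgroup.mem_subgroupOf.mp ((Subgroup.mem_normalizer_iff.mp hxN ⟨y, hy.2⟩).mp
      (Subgroup.mem_subgroupOf.mpr hy))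
  have hBN : B ≤ N := le_inf Subgroup.le_normalizer le_sup_right
  have hBxN : cj (x : G) B ≤ N := by
    intro y hy
    rw [mem_cj] at hy
    simpa [mul_assoc] using hxn _ (hBN hy)
  have hBx : cj (x : G) B ⊓ B = ⊥ := (hBti (x : G)).resolve_left fun h =>
    hx ⟨mem_normalizer_of_cj_eq h, x.2⟩
  have hinj : Nat.card (↥(cj (x : G) B) × ↥B) ≤ Nat.card N := by
    refine Nat.card_le_card_of_injective
      (fun yz => ⟨(yz.1 : G) * (yz.2 : G), N.mul_mem (hBxN yz.1.2) (hBN yz.2.2)⟩) ?_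
    rintro ⟨y, z⟩ ⟨y', z'⟩ h
    have h' : (y : G) * z = y' * z' := congrArg Subtype.val h
    have h1 : (y' : G)⁻¹ * y = (z' : G) * (z : G)⁻¹ := by
      rw [inv_mul_eq_iff_eq_mul, ← mul_assoc, ← h', mul_inv_cancel_right]
    have h2 : (y' : G)⁻¹ * y ∈ cj (x : G) B ⊓ B :=
      ⟨(cj (x : G) B).mul_mem ((cj (x : G) B).inv_mem y'.2) y.2,
        h1 ▸ B.mul_mem z'.2 (B.inv_mem z.2)⟩
    rw [hBx, Subgroup.mem_bot, inv_mul_eq_one] at h2
    refine Prod.ext (Subtype.ext h2.symm) (Subtype.ext ?_)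
    rw [h2] at h'
    exact mul_left_cancel h'
  have hsur : Nat.card N ≤ Nat.card (↥(A ⊓ Subgroup.normalizer (B : Set G)) × ↥B) := by
    refine Nat.card_le_card_of_surjective
      (fun ab => ⟨(ab.1 : G) * (ab.2 : G),
        N.mul_mem ⟨ab.1.2.2, le_sup_left (a := A) ab.1.2.1⟩ (hBN ab.2.2)⟩) ?_
    intro y
    have hy : (y : G) ∈ ((A ⊔ B : Subgroup G) : Set G) := y.2.2
    rw [Subgroup.coe_mul_of_right_le_normalizer_left A B hN] at hy
    obtain ⟨a, ha, b, hb, hab⟩ := hy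
    refine ⟨⟨⟨a, ha, ?_⟩, ⟨b, hb⟩⟩, Subtype.ext hab⟩
    have : a = (y : G) * b⁻¹ := by rw [← hab, mul_inv_cancel_right]
    rw [this]
    exact mul_mem y.2.1 (Subgroup.le_normalizer (B.inv_mem hb))
  rw [Nat.card_prod, card_cj] at hinj
  rw [Nat.card_prod] at hsur
  have h3 : Nat.card B ≤ Nat.card ↥(A ⊓ Subgroup.normalizer (B : Set G)) :=
    Nat.le_of_mul_le_mul_right (hinj.trans hsur) Nat.card_pos
  have h4 : A ⊓ Subgroup.normalizer (B : Set G) = A :=
    Subgroup.eq_of_le_of_card_ge inf_le_left (hle.trans h3)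
  exact hAN (h4 ▸ inf_le_right)

/-- An automorphism of 2-power order of a finite abelian 2-group with `C(t ^ 2) = C(t)` is
trivial. -/
theorem fixed_of_fixed_sq {A : Type*} [CommGroup A] [Finite A] (hA : IsPGroup 2 A) (t : MulAut A)
    (ht : ∃ k : ℕ, t ^ (2 ^ k) = 1) (hC : ∀ a : A, t (t a) = a → t a = a) : ∀ a : A, t a = a := by
  classical
  by_contra hne
  push Not at hne
  obtain ⟨a₀, ha₀⟩ := hne
  let d : A →* A :=
    { toFun := fun a => t a / a
      map_one' := by simp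
      map_mul' := fun a b => by rw [map_mul, mul_div_mul_comm] }
  have hd : ∀ a, d a = t a / a := fun _ => rfl
  let H : Subgroup A := d.range
  have hH : ∀ a : A, a ∈ H ↔ t a ∈ H := by
    intro a
    constructor
    · rintro ⟨b, rfl⟩
      exact ⟨t b, by simp [hd]⟩
    · rintro ⟨b, hb⟩
      refine ⟨t⁻¹ b, t.injective ?_⟩
      rw [← hb]
      simp [hd]
  let σ : Equiv.Perm H := t.toEquiv.subtypeEquiv hH
  have hσ : ∀ (n : ℕ) (x : H), (((σ ^ n) x : H) : A) = (t ^ n) (x : A) := by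
    intro n
    induction n with
    | zero => intro x; rfl
    | succ n ih =>
      intro x
      rw [pow_succ, pow_succ, Equiv.Perm.mul_apply, MulAut.mul_apply, ih]
      rfl
  obtain ⟨k, hk⟩ := ht
  have hσk : σ ^ (2 ^ k) = 1 := by
    refine Equiv.ext fun x => Subtype.ext ?_
    rw [hσ, hk]
    rfl
  have hHne : H ≠ ⊥ := by
    intro h
    have : d a₀ ∈ H := ⟨a₀, rfl⟩
    rw [h, Subgroup.mem_bot, hd, div_eq_one] at this
    exact ha₀ this
  haveI : Fintype H := Fintype.ofFinite _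
  have h2 : 2 ∣ Fintype.card H := by
    rw [← Nat.card_eq_fintype_card]
    exact Cfsg.Agent.PGroup.dvd_card_of_ne_bot hA hHne
  obtain ⟨⟨c, a, rfl⟩, hcfix, hc1⟩ := Equiv.Perm.exists_fixed_point_of_prime' (p := 2) (n := k)
    h2 hσk (a := (1 : H)) (Subtype.ext (map_one t))
  have hfix : t (d a) = d a := congrArg Subtype.val hcfix
  have hne1 : d a ≠ 1 := fun h => hc1 (Subtype.ext h)
  obtain ⟨m, hm⟩ : 2 ∣ orderOf (d a) := hA.dvd_orderOf hne1
  have hpos := orderOf_pos (d a)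
  have hm1 : d a ^ m ≠ 1 := pow_ne_one_of_lt_orderOf (by omega) (by omega)
  have hm2 : (d a ^ m) ^ 2 = 1 := by
    rw [← pow_mul, mul_comm m 2, ← hm, pow_orderOf_eq_one]
  have hfixm : t (d (a ^ m)) = d (a ^ m) := by rw [map_pow d, map_pow t, hfix]
  have h3 : t (a ^ m) = d (a ^ m) * a ^ m := by rw [hd, div_mul_cancel]
  have h4 : t (a ^ m) = a ^ m := by
    refine hC _ ?_
    rw [h3, map_mul t, hfixm, h3, ← mul_assoc, ← pow_two, map_pow d, hm2, one_mul]
  apply hm1
  rw [← map_pow d, hd, h4, div_self']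

end Cfsg.Agent.Class49
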