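import Cfsg.Agent.Class49.TI

/-!
A conjugation-invariant family of TI 2-subgroups of one order, none of exponent 2, consists of
pairwise commuting subgroups as soon as any two members generate a 2-group.
-/

set_option autoImplicit false

namespace Cfsg.Agent.Class49

open Subgroup
open scoped commutatorElement

variable {G : Type*} [Group G]

theorem le_normalizer_of_forall_commute {A B : Subgroup G}
    (h : ∀ a ∈ A, ∀ b ∈ B, a * b = b * a) : A ≤ Subgroup.normalizer (B : Set G) := fun a ha =>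
  mem_normalizer_of_cj_eq <| by
    ext x
    rw [mem_cj]
    constructor
    · intro hx
      have h1 := h a ha _ hx
      have : x = a⁻¹ * x * a := by
        have h3 : a * (a⁻¹ * x * a) = x * a := by group
        rw [h3] at h1
        exact mul_right_cancel h1
      rwa [this]
    · intro hx
      rw [mul_assoc, ← h a ha x hx, ← mul_assoc, inv_mul_cancel, one_mul]
      exact hx

/-- A proper subgroup `X` of the `p`-group `S` lies in a proper subgroup normalized by `S`. -/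
theorem exists_normalized_lt [Finite G] {p : ℕ} [Fact p.Prime] {S X : Subgroup G}
    (hS : IsPGroup p S) (hXS : X < S) :
    ∃ M : Subgroup G, X ≤ M ∧ M < S ∧ ∀ s ∈ S, cj s M = M := by
  have hne : X.subgroupOf S ≠ ⊤ := fun h => hXS.not_ge (Subgroup.subgroupOf_eq_top.mp h)
  obtain ⟨M, hXM, hMn, hM⟩ := Cfsg.Agent.PGroup.exists_le_index_eq_prime hS hne
  refine ⟨M.map S.subtype, fun x hx => ⟨⟨x, hXS.le hx⟩, hXM hx, rfl⟩,
    lt_of_le_of_ne (Subgroup.map_subtype_le _) fun h => ?_, fun s hs => ?_⟩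
  · have hMtop : M = ⊤ := Subgroup.map_injective S.subtype_injective
      (h.trans (by rw [← MonoidHom.range_eq_map, Subgroup.range_subtype]))
    rw [hMtop, Subgroup.index_top] at hM
    exact (Fact.out : p.Prime).one_lt.ne hM
  · refine Subgroup.eq_of_le_of_card_ge ?_ (card_cj s _).ge
    intro x hx
    rw [mem_cj] at hx
    obtain ⟨y, hy, hyx⟩ := hx
    refine ⟨⟨s, hs⟩ * y * ⟨s, hs⟩⁻¹, hMn.conj_mem y hy _, ?_⟩
    simp only [map_mul, map_inv, Subgroup.coe_subtype] at hyx ⊢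
    rw [hyx]
    group

theorem family_commute [Finite G] (Δ : Set (Subgroup G))
    (hinv : ∀ g : G, ∀ R ∈ Δ, cj g R ∈ Δ)
    (hsq : ∀ R ∈ Δ, ∃ r ∈ R, r ^ 2 ≠ 1)
    (hord : ∀ R ∈ Δ, ∀ T ∈ Δ, Nat.card R = Nat.card T)
    (hti : ∀ R ∈ Δ, ∀ T ∈ Δ, R = T ∨ R ⊓ T = ⊥) :
    ∀ R ∈ Δ, ∀ T ∈ Δ, IsPGroup 2 ↥(R ⊔ T : Subgroup G) → R ≠ T → ⁅R, T⁆ = ⊥ := by
  suffices H : ∀ n : ℕ, ∀ R ∈ Δ, ∀ T ∈ Δ, Nat.card ↥(R ⊔ T : Subgroup G) = n →
      IsPGroup 2 ↥(R ⊔ T : Subgroup G) → R ≠ T → ⁅R, T⁆ = ⊥ from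
    fun R hR T hT => H _ R hR T hT rfl
  intro n
  induction n using Nat.strong_induction_on with
  | _ n ih =>
  intro R hR T hT hn hS hne
  have hisTI : ∀ X ∈ Δ, IsTI X := fun X hX g => hti _ (hinv g X hX) X hX
  have hRT : R ⊓ T = ⊥ := (hti R hR T hT).resolve_left hne
  have hR2 : IsPGroup 2 R := hS.to_le le_sup_left
  have hT2 : IsPGroup 2 T := hS.to_le le_sup_right
  by_cases hTR : T ≤ Subgroup.normalizer (R : Set G)
  · exact ti_commute hR2 hT2 (hisTI T hT) (hord R hR T hT).le hRT hTR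
  by_cases hRT' : R ≤ Subgroup.normalizer (T : Set G)
  · rw [Subgroup.commutator_comm]
    exact ti_commute hT2 hR2 (hisTI R hR) (hord T hT R hR).le (inf_comm R T ▸ hRT) hRT'
  exfalso
  set S : Subgroup G := R ⊔ T with hSdef
  have hRS : R ≤ S := le_sup_left
  have hTS : T ≤ S := le_sup_right
  have key : ∀ X ∈ Δ, X < S → ∀ s₁ ∈ S, ∀ s₂ ∈ S,
      cj s₁ X = cj s₂ X ∨ ⁅cj s₁ X, cj s₂ X⁆ = ⊥ := by
    intro X hX hXS s₁ hs₁ s₂ hs₂
    obtain ⟨M, hXM, hMS, hM⟩ := exists_normalized_lt hS hXS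
    refine or_iff_not_imp_left.mpr fun hne12 => ?_
    have hle : cj s₁ X ⊔ cj s₂ X ≤ M := by
      refine sup_le ?_ ?_
      · rw [← hM s₁ hs₁]; exact Subgroup.map_mono hXM
      · rw [← hM s₂ hs₂]; exact Subgroup.map_mono hXM
    refine ih _ ?_ _ (hinv s₁ X hX) _ (hinv s₂ X hX) rfl (hS.to_le (hle.trans hMS.le)) hne12
    rw [← hn]
    refine lt_of_le_of_lt (Subgroup.card_le_of_le hle) (lt_of_le_of_ne
      (Subgroup.card_le_of_le hMS.le) fun h => hMS.ne ?_)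
    exact Subgroup.eq_of_le_of_card_ge hMS.le h.ge
  have hRlt : R < S := lt_of_le_of_ne hRS fun h => hTR
    ((hTS.trans h.ge).trans Subgroup.le_normalizer)
  have hTlt : T < S := lt_of_le_of_ne hTS fun h => hRT'
    ((hRS.trans h.ge).trans Subgroup.le_normalizer)
  -- the normal closures in `S`
  set D : Subgroup G := ⨆ s : ↥S, cj (s : G) R with hD
  set E : Subgroup G := ⨆ s : ↥S, cj (s : G) T with hE
  have hclos : ∀ X : Subgroup G, ∀ s ∈ S, ∀ d ∈ (⨆ t : ↥S, cj (t : G) X),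
      s * d * s⁻¹ ∈ (⨆ t : ↥S, cj (t : G) X) := by
    intro X s hs d hd
    have h1 : cj s (⨆ t : ↥S, cj (t : G) X) ≤ ⨆ t : ↥S, cj (t : G) X := by
      rw [cj, Subgroup.map_iSup]
      refine iSup_le fun t => ?_
      change cj s (cj (t : G) X) ≤ _
      rw [cj_cj]
      exact le_iSup (fun t : ↥S => cj (t : G) X) ⟨s * t, S.mul_mem hs t.2⟩
    exact h1 (conj_mem_cj hd)
  have hnorm : ∀ X ∈ Δ, X < S → (⨆ t : ↥S, cj (t : G) X) ≤ Subgroup.normalizer (X : Set G) := by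
    intro X hX hXS
    refine iSup_le fun t => ?_
    rcases key X hX hXS t t.2 1 S.one_mem with h | h <;> rw [cj_one] at h
    · rw [h]; exact Subgroup.le_normalizer
    · exact le_normalizer_of_forall_commute fun a ha b hb => commute_of_commutator_eq_bot h ha hb
  have hXle : ∀ X : Subgroup G, X ≤ ⨆ t : ↥S, cj (t : G) X := fun X =>
    (cj_one X).ge.trans (le_iSup (fun t : ↥S => cj (t : G) X) ⟨1, S.one_mem⟩)
  -- `X ⊓ ⟨Y ^ S⟩ = ⊥`
  have hmain : ∀ X ∈ Δ, ∀ Y ∈ Δ, X < S → Y < S → ¬ X ≤ Subgroup.normalizer (Y : Set G) →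
      ¬ Y ≤ Subgroup.normalizer (X : Set G) → X ⊓ (⨆ t : ↥S, cj (t : G) Y) = ⊥ := by
    intro X hX Y hY hXS hYS hXY hYX
    by_contra hU
    set DY : Subgroup G := ⨆ t : ↥S, cj (t : G) Y with hDY
    haveI : (DY.subgroupOf X).Normal := ⟨fun a ha b => by
      rw [Subgroup.mem_subgroupOf] at ha ⊢
      exact hclos Y b (hXS.le b.2) a ha⟩
    have hne0 : DY.subgroupOf X ≠ ⊥ := by
      intro h
      apply hU
      rw [eq_bot_iff]
      intro a ha
      have : (⟨a, ha.1⟩ : ↥X) ∈ DY.subgroupOf X := Subgroup.mem_subgroupOf.mpr ha.2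
      rw [h, Subgroup.mem_bot] at this
      exact Subgroup.mem_bot.mpr (congrArg Subtype.val this)
    obtain ⟨⟨u, huD, huZ⟩, hu1⟩ := Subgroup.ne_bot_iff_exists_ne_one.mp
      (Cfsg.Agent.PGroup.inf_center_ne_bot (hS.to_le hXS.le) hne0)
    have huG : (u : G) ≠ 1 := fun h => hu1 (Subtype.ext (Subtype.ext h))
    have huN : (u : G) ∈ Subgroup.normalizer (Y : Set G) :=
      hnorm Y hY hYS (Subgroup.mem_subgroupOf.mp huD)
    have hucomm : ∀ t ∈ X, (u : G) * t = t * (u : G) := fun t ht =>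
      (congrArg Subtype.val (Subgroup.mem_center_iff.mp huZ ⟨t, ht⟩)).symm
    apply hXY
    by_cases hcent : ∀ y ∈ Y, y * (u : G) = (u : G) * y
    · exact absurd (fun y hy => (hisTI X hX).mem_normalizer u.2 huG (hcent y hy)) hYX
    push Not at hcent
    obtain ⟨y, hy, hyu⟩ := hcent
    intro t ht
    -- `ρ = [y, u]` lies in `Y` and commutes with `X`
    have hρY : y * ((u : G) * y⁻¹ * (u : G)⁻¹) ∈ Y :=
      Y.mul_mem hy ((Subgroup.mem_normalizer_iff.mp huN y⁻¹).mp (Y.inv_mem hy))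
    have hρ1 : y * ((u : G) * y⁻¹ * (u : G)⁻¹) ≠ 1 := by
      intro h
      apply hyu
      rw [← mul_assoc, ← mul_assoc, ← commutatorElement_def,
        commutatorElement_eq_one_iff_mul_comm] at h
      exact h
    refine (hisTI Y hY).mem_normalizer hρY hρ1 ?_
    have h1 : y * (u : G) * y⁻¹ * t = t * (y * (u : G) * y⁻¹) := by
      rcases key X hX hXS y (hYS.le hy) 1 S.one_mem with h | h <;> rw [cj_one] at h
      · obtain ⟨t', ht', rfl⟩ : t ∈ cj y X := h.symm ▸ ht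
        change y * (u : G) * y⁻¹ * (y * t' * y⁻¹) = y * t' * y⁻¹ * (y * (u : G) * y⁻¹)
        rw [show y * (u : G) * y⁻¹ * (y * t' * y⁻¹) = y * ((u : G) * t') * y⁻¹ by group,
          hucomm t' ht']
        group
      · exact commute_of_commutator_eq_bot h (conj_mem_cj u.2) ht
    have h2 : (u : G)⁻¹ * t = t * (u : G)⁻¹ :=
      (Commute.inv_left (hucomm t ht : Commute (u : G) t)).eq
    have h3 : Commute (y * (u : G) * y⁻¹ * (u : G)⁻¹) t :=
      (show Commute (y * (u : G) * y⁻¹) t from h1).mul_left h2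
    simpa [mul_assoc] using h3.eq.symm
  have hTD : T ⊓ D = ⊥ := hmain T hT R hR hTlt hRlt hTR hRT'
  have hRE : R ⊓ E = ⊥ := hmain R hR T hT hRlt hTlt hRT' hTR
  -- `D ⊓ E` is centralized by `S`
  have hZ : ∀ X ∈ Δ, X < S → ∀ DY : Subgroup G, (∀ s ∈ S, ∀ d ∈ DY, s * d * s⁻¹ ∈ DY) →
      X ⊓ DY = ⊥ → ∀ x ∈ X, ∀ e ∈ DY, e ∈ (⨆ t : ↥S, cj (t : G) X) → x * e = e * x := by
    intro X hX hXS DY hDY hint x hx e he heX
    have h1 : x * e * x⁻¹ * e⁻¹ ∈ X ⊓ DY := by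
      refine ⟨?_, DY.mul_mem (hDY x (hXS.le hx) e he) (DY.inv_mem he)⟩
      have h2 := (Subgroup.mem_normalizer_iff.mp (hnorm X hX hXS heX) x⁻¹).mp (X.inv_mem hx)
      simpa [mul_assoc] using X.mul_mem hx h2
    rw [hint, Subgroup.mem_bot, ← commutatorElement_def,
      commutatorElement_eq_one_iff_mul_comm] at h1
    exact h1
  have hcS : ∀ e ∈ D, e ∈ E → ∀ s ∈ S, s * e = e * s := by
    intro e heD heE s hs
    have : S ≤ Subgroup.centralizer ({e} : Set G) := by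
      refine sup_le ?_ ?_
      · intro x hx
        rw [Subgroup.mem_centralizer_singleton_iff]
        exact hZ R hR hRlt E (hclos T) hRE x hx e heE heD
      · intro x hx
        rw [Subgroup.mem_centralizer_singleton_iff]
        exact hZ T hT hTlt D (hclos R) hTD x hx e heD heE
    exact Subgroup.mem_centralizer_singleton_iff.mp (this hs)
  have hc : ∀ r ∈ R, ∀ t ∈ T, ∀ s ∈ S, s * ⁅r, t⁆ = ⁅r, t⁆ * s := by
    intro r hr t ht
    refine hcS _ ?_ ?_
    · rw [commutatorElement_def, mul_assoc, mul_assoc, ← mul_assoc t r⁻¹ t⁻¹]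
      exact D.mul_mem (hXle R hr) (hclos R t (hTS ht) _ (hXle R (R.inv_mem hr)))
    · rw [commutatorElement_def]
      exact E.mul_mem (hclos T r (hRS hr) t (hXle T ht)) (E.inv_mem (hXle T ht))
  have hsqr : ∀ r ∈ R, ∀ t ∈ T, ⁅r ^ 2, t⁆ = ⁅r, t⁆ * ⁅r, t⁆ := by
    intro r hr t ht
    have h := hc r hr t ht r (hRS hr)
    have h' : ⁅r ^ 2, t⁆ = r * ⁅r, t⁆ * r⁻¹ * ⁅r, t⁆ := by
      simp only [commutatorElement_def, pow_two]; group
    rw [h', h, mul_inv_cancel_right]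
  have hsqt : ∀ r ∈ R, ∀ t ∈ T, ⁅r, t ^ 2⁆ = ⁅r, t⁆ * ⁅r, t⁆ := by
    intro r hr t ht
    have h := hc r hr t ht t (hTS ht)
    have h' : ⁅r, t ^ 2⁆ = ⁅r, t⁆ * (t * ⁅r, t⁆ * t⁻¹) := by
      simp only [commutatorElement_def, pow_two]; group
    rw [h', h, mul_inv_cancel_right]
  obtain ⟨r₀, hr₀, hr₀2⟩ := hsq R hR
  -- an element of order exactly four
  obtain ⟨r₁, hr₁, hr₁2, hr₁4⟩ : ∃ r ∈ R, r ^ 2 ≠ 1 ∧ r ^ 4 = 1 := by
    obtain ⟨k, hk⟩ := IsPGroup.iff_orderOf.mp hR2 ⟨r₀, hr₀⟩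
    rw [Subgroup.orderOf_mk] at hk
    obtain ⟨j, rfl⟩ : ∃ j, k = j + 2 := by
      refine ⟨k - 2, ?_⟩
      by_contra h
      have : k ≤ 1 := by omega
      apply hr₀2
      rw [← orderOf_dvd_iff_pow_eq_one, hk]
      exact (Nat.pow_dvd_pow 2 this).trans (by norm_num)
    refine ⟨r₀ ^ 2 ^ j, R.pow_mem hr₀ _, ?_, ?_⟩
    · rw [← pow_mul, ← pow_succ]
      refine pow_ne_one_of_lt_orderOf (by positivity) ?_
      rw [hk]
      exact Nat.pow_lt_pow_right one_lt_two (by omega)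
    · rw [← pow_mul, ← orderOf_dvd_iff_pow_eq_one, hk]
      exact dvd_of_eq (by ring)
  have ht2 : ∀ t ∈ T, t ^ 2 ∈ Subgroup.normalizer (R : Set G) := by
    intro t ht
    refine (hisTI R hR).mem_normalizer (R.pow_mem hr₁ 2) hr₁2 ?_
    have h := hsqt (r₁ ^ 2) (R.pow_mem hr₁ 2) t ht
    rw [← hsqr (r₁ ^ 2) (R.pow_mem hr₁ 2) t ht, ← pow_mul,
      show r₁ ^ (2 * 2) = 1 from hr₁4, commutatorElement_one_left,
      commutatorElement_eq_one_iff_mul_comm] at h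
    exact h.symm
  have hzero : ∀ r ∈ R, ∀ t ∈ T, ⁅r, t ^ 2⁆ = 1 := by
    intro r hr t ht
    by_contra hz
    have hzR : ⁅r, t ^ 2⁆ ∈ R := by
      rw [commutatorElement_def, mul_assoc, mul_assoc, ← mul_assoc (t ^ 2) r⁻¹]
      exact R.mul_mem hr ((Subgroup.mem_normalizer_iff.mp (ht2 t ht) r⁻¹).mp (R.inv_mem hr))
    exact hTR fun x hx => (hisTI R hR).mem_normalizer hzR hz
      (hc r hr (t ^ 2) (T.pow_mem ht 2) x (hTS hx))
  apply hTR
  intro t ht
  refine (hisTI R hR).mem_normalizer (R.pow_mem hr₀ 2) hr₀2 ?_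
  have h := hsqr r₀ hr₀ t ht
  rw [← hsqt r₀ hr₀ t ht, hzero r₀ hr₀ t ht, commutatorElement_eq_one_iff_mul_comm] at h
  exact h.symm

end Cfsg.Agent.Class49
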